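import Cfsg.Agent.Spor.Fi.Model22
import Cfsg.Agent.TT.HubModel

set_option autoImplicit false
set_option Elab.async false
set_option maxRecDepth 100000

namespace Cfsg.Agent.Spor.FiC.M22

open Cfsg.Agent.Comp.BN

noncomputable def act1 : Act := netAct' nets

theorem spec1 : act1.Spec 4096 π :=
  spec_fast spec

theorem cent : Subgroup.centralizer {ev Cfsg.Agent.Spor.FiC.L22.x [0]} = fixS ρ [0] :=
  model.centralizer_eq spec1 orb0 prim cover (hstab ▸ model.le_centralizer spec1 (by decide +kernel)) [1] 0 (by decide +kernel)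

theorem cm : CModel Cfsg.Agent.Spor.FiC.P22 Cfsg.Agent.Spor.FiC.L22.x π [362, 34, 473, 1, 0] ρ 0 (ones 3510) 3510 (ev Cfsg.Agent.Spor.FiC.L22.x [0]) :=
  ⟨model, orb0, cent⟩

theorem tr0 : TransOn ρ 0 (ev Cfsg.Agent.Spor.FiC.L22.x [0]) so0S_S0 :=
  model.transOn spec1 cent soP0 [1] 3 (by simp) (by decide +kernel)

theorem tr1 : TransOn ρ 0 (ev Cfsg.Agent.Spor.FiC.L22.x [0]) so1S_S0 :=
  model.transOn spec1 cent soP1 [7, 4, 3, 1, 2, 0, 1] 2 (by simp) (by decide +kernel)

theorem orda : orderOf (ev Cfsg.Agent.Spor.FiC.L22.x [0]) = 2 :=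
  model.orderOf_prime spec1 Nat.prime_two 1 (by decide +kernel)

theorem transA : Cfsg.IsThreeTranspositionClass (conjugatesOf (ev Cfsg.Agent.Spor.FiC.L22.x [0])) ∧ Nat.card (conjugatesOf (ev Cfsg.Agent.Spor.FiC.L22.x [0])) = 3510 :=
  have := simple
  model.threeTrans orb0 cent orda (Ts := [so0S_S0, so1S_S0]) ⟨tr0, tr1, trivial⟩ cover
    (normal_top_of_simple (model.ne_one spec1 (b := 1) (by decide +kernel)))

theorem center : Subgroup.center Cfsg.Spor.Fi22 = ⊥ :=
  cm.center_eq_bot (by decide +kernel)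

theorem aff : ∃ a ∈ (conjugatesOf (ev Cfsg.Agent.Spor.FiC.L22.x [0])), ∃ b ∈ (conjugatesOf (ev Cfsg.Agent.Spor.FiC.L22.x [0])), ∃ c ∈ (conjugatesOf (ev Cfsg.Agent.Spor.FiC.L22.x [0])), Cfsg.Agent.TT.Aff a b c :=
  ⟨_, cm.cw_mem _, _, cm.cw_mem _, _, cm.cw_mem _, cm.aff spec1 [] [1] [2, 3, 7, 8, 4, 3, 7, 5, 4, 3, 2, 1] (by decide +kernel) (by decide +kernel)⟩

def fr : List (List ℕ) := [[7, 2, 3, 1, 2, 0, 1], [4, 2, 3, 1, 2, 0, 1], [1, 2, 3, 7, 4, 3, 2, 1], [5, 4, 3, 7, 2, 3, 4, 1, 2, 3, 7, 5, 4, 3, 2, 1]]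

theorem o3_0 : allL (locC act1 Cfsg.Agent.Spor.FiC.P22.I [0] 0 [5, 6, 4, 5, 3, 4, 2, 3, 1, 2, 0, 1]) ([] :: [7, 4, 3, 1, 2, 0, 1] :: [3, 1, 2, 0, 1] :: fr) = true :=
  by decide +kernel

theorem o3_1 : allL (locC act1 Cfsg.Agent.Spor.FiC.P22.I [0] 0 []) ([7, 4, 3, 1, 2, 0, 1] :: [3, 1, 2, 0, 1] :: fr) = true :=
  by decide +kernel

theorem o3_2 : allL (locC act1 Cfsg.Agent.Spor.FiC.P22.I [0] 0 [7, 4, 3, 1, 2, 0, 1]) ([3, 1, 2, 0, 1] :: fr) = true :=
  by decide +kernel

theorem o3_3 : allL (locC act1 Cfsg.Agent.Spor.FiC.P22.I [0] 0 [3, 1, 2, 0, 1]) (fr) = true :=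
  by decide +kernel

theorem o3_4 : fixC act1 [362, 34, 473, 1, 0] (prodW Cfsg.Agent.Spor.FiC.P22.I [0] ([] :: [7, 4, 3, 1, 2, 0, 1] :: [3, 1, 2, 0, 1] :: fr)) = true :=
  by decide +kernel

theorem notO3 : ∀ m, ¬ Cfsg.Agent.TT.IsO3 (conjugatesOf (ev Cfsg.Agent.Spor.FiC.L22.x [0])) m :=
  cm.not_isO3 spec1 _ _ _ _ _ o3_0 o3_1 o3_2 o3_3 o3_4

theorem cl0 : ev Cfsg.Agent.Spor.FiC.L22.x [0] ∈ Subgroup.closure (Cfsg.Agent.TT.loc (conjugatesOf (ev Cfsg.Agent.Spor.FiC.L22.x [0])) (ev Cfsg.Agent.Spor.FiC.L22.x (conjW Cfsg.Agent.Spor.FiC.P22.I [] [0]))) :=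
  cm.mem_closure_loc spec1 _ [[7, 4, 3, 1, 2, 0, 1], [3, 1, 2, 0, 1], [7, 2, 3, 1, 2, 0, 1], [4, 2, 3, 1, 2, 0, 1], [1, 2, 3, 7, 4, 3, 2, 1], [5, 4, 3, 7, 2, 3, 4, 1, 2, 3, 7, 5, 4, 3, 2, 1]] (by decide +kernel)

theorem cl1 : ev Cfsg.Agent.Spor.FiC.L22.x [2] ∈ Subgroup.closure (Cfsg.Agent.TT.loc (conjugatesOf (ev Cfsg.Agent.Spor.FiC.L22.x [0])) (ev Cfsg.Agent.Spor.FiC.L22.x (conjW Cfsg.Agent.Spor.FiC.P22.I [] [0]))) :=
  cm.mem_closure_loc spec1 _ [[1, 2, 0, 1]] (by decide +kernel)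

theorem cl2 : ev Cfsg.Agent.Spor.FiC.L22.x [3] ∈ Subgroup.closure (Cfsg.Agent.TT.loc (conjugatesOf (ev Cfsg.Agent.Spor.FiC.L22.x [0])) (ev Cfsg.Agent.Spor.FiC.L22.x (conjW Cfsg.Agent.Spor.FiC.P22.I [] [0]))) :=
  cm.mem_closure_loc spec1 _ [[2, 3, 1, 2, 0, 1]] (by decide +kernel)

theorem cl3 : ev Cfsg.Agent.Spor.FiC.L22.x [4] ∈ Subgroup.closure (Cfsg.Agent.TT.loc (conjugatesOf (ev Cfsg.Agent.Spor.FiC.L22.x [0])) (ev Cfsg.Agent.Spor.FiC.L22.x (conjW Cfsg.Agent.Spor.FiC.P22.I [] [0]))) :=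
  cm.mem_closure_loc spec1 _ [[3, 4, 2, 3, 1, 2, 0, 1]] (by decide +kernel)

theorem cl4 : ev Cfsg.Agent.Spor.FiC.L22.x [5] ∈ Subgroup.closure (Cfsg.Agent.TT.loc (conjugatesOf (ev Cfsg.Agent.Spor.FiC.L22.x [0])) (ev Cfsg.Agent.Spor.FiC.L22.x (conjW Cfsg.Agent.Spor.FiC.P22.I [] [0]))) :=
  cm.mem_closure_loc spec1 _ [[4, 5, 3, 4, 2, 3, 1, 2, 0, 1]] (by decide +kernel)

theorem cl5 : ev Cfsg.Agent.Spor.FiC.L22.x [6] ∈ Subgroup.closure (Cfsg.Agent.TT.loc (conjugatesOf (ev Cfsg.Agent.Spor.FiC.L22.x [0])) (ev Cfsg.Agent.Spor.FiC.L22.x (conjW Cfsg.Agent.Spor.FiC.P22.I [] [0]))) :=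
  cm.mem_closure_loc spec1 _ [[5, 6, 4, 5, 3, 4, 2, 3, 1, 2, 0, 1]] (by decide +kernel)

theorem cl6 : ev Cfsg.Agent.Spor.FiC.L22.x [7] ∈ Subgroup.closure (Cfsg.Agent.TT.loc (conjugatesOf (ev Cfsg.Agent.Spor.FiC.L22.x [0])) (ev Cfsg.Agent.Spor.FiC.L22.x (conjW Cfsg.Agent.Spor.FiC.P22.I [] [0]))) :=
  cm.mem_closure_loc spec1 _ [[3, 7, 2, 3, 1, 2, 0, 1]] (by decide +kernel)

theorem cl7 : ev Cfsg.Agent.Spor.FiC.L22.x [8] ∈ Subgroup.closure (Cfsg.Agent.TT.loc (conjugatesOf (ev Cfsg.Agent.Spor.FiC.L22.x [0])) (ev Cfsg.Agent.Spor.FiC.L22.x (conjW Cfsg.Agent.Spor.FiC.P22.I [] [0]))) :=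
  cm.mem_closure_loc spec1 _ [[7, 8, 3, 7, 2, 3, 1, 2, 0, 1]] (by decide +kernel)

theorem cl8 : ev Cfsg.Agent.Spor.FiC.L22.x [0, 1, 2, 3, 4, 7, 0, 1, 2, 3, 4, 7, 0, 1, 2, 3, 4, 7, 0, 1, 2, 3, 4, 7, 0, 1, 2, 3, 4, 7] ∈ Subgroup.closure (Cfsg.Agent.TT.loc (conjugatesOf (ev Cfsg.Agent.Spor.FiC.L22.x [0])) (ev Cfsg.Agent.Spor.FiC.L22.x (conjW Cfsg.Agent.Spor.FiC.P22.I [] [0]))) :=
  cm.mem_closure_loc spec1 _ [[5, 4, 3, 7, 2, 3, 4, 1, 2, 3, 7, 5, 4, 3, 2, 1]] (by decide +kernel)

theorem centD : ∀ d ∈ (conjugatesOf (ev Cfsg.Agent.Spor.FiC.L22.x [0])), Subgroup.centralizer {d} = Subgroup.closure (Cfsg.Agent.TT.loc (conjugatesOf (ev Cfsg.Agent.Spor.FiC.L22.x [0])) d) :=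
  fun _ hd => cm.cent_closure spec1 transA.1 [] (by decide +kernel) hstab ⟨cl0, cl1, cl2, cl3, cl4, cl5, cl6, cl7, cl8, trivial⟩ hd

noncomputable def T : ℕ := nat_lit 0xffffffffffffffffffffffffffffffffffffffffffffffffffffffffffffffffffffffffffffffffffffffffffffffffffffffffffffffffffffffffffffffffffffffffffffffffffc00000000000000000000000000180000000000000000000000000000900c000000000000200000000000009000000000000009000e000000000000000000050000000000000004b0000000000000026000380000000000000000000120068000000000000001cd80000000000201b0003000000000000009000000003401e1000000000000003bc00000000203c00100000000000000000d800000007803c170000000000000fc00000303c002000000000200000180003e000001e01e83e0000010000f800060f000000020000007000003c0007c0003c0fc03e00018047801c7800000000380000807c0003c01e00787e003c00e09e0670000000000004780008183c00f03c0e7f0021e06271b80000000000000000c1e00600e0781c71dc03c08719736000000000000000002c0f0020e071c739be00e31cdef00000000000000000030e0e2071c739b7e239bbf80000000000000000000f071ce39cdbfe5dffc00000000020000000000fe39b9b7fefffe00000000000000001ff9bdffffffa0000000000000ffdfffff980000000001fffffec00000000ffffe0000001fffc000003ff800007ff0000fff0002fff0003fe003981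

theorem hT : fixM act1 4096 12 [0] = T :=
  Nat.eq_of_beq_eq_true (by decide +kernel)

theorem comT : ∀ e, IsConj (ev Cfsg.Agent.Spor.FiC.L22.x [0]) e → (Commute (ev Cfsg.Agent.Spor.FiC.L22.x [0]) e ↔ T.testBit (cpt ρ 0 (ev Cfsg.Agent.Spor.FiC.L22.x [0]) e) = true) :=
  fun _ he => hT ▸ cm.commute_word spec1 (K := 12) (by decide) (by decide +kernel) he [0]

noncomputable def X1 : ℕ := nat_lit 0x180000000000000000000000000000900c000000000000200000000000009000000000000009000e000000000000000000050000000000000004b0000000000000026000380000000000000000000120068000000000000001cd80000000000201b0003000000000000009000000003401e1000000000000003bc00000000203c00100000000000000000d800000007803c170000000000000fc00000303c002000000000200000180003e000001e01e83e0000010000f800060f000000020000007000003c0007c0003c0fc03e00018047801c7800000000380000807c0003c01e00787e003c00e09e0670000000000004780008183c00f03c0e7f0021e06271b80000000000000000c1e00600e0781c71dc03c08719736000000000000000002c0f0020e071c739be00e31cdef00000000000000000030e0e2071c739b7e239bbf80000000000000000000f071ce39cdbfe5dffc00000000020000000000fe39b9b7fefffe00000000000000001ff9bdffffffa0000000000000ffdfffff980000000001fffffec00000000ffffe0000001fffc000003ff800007ff0000fff0002fff0003fe003981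

theorem pi1 : PerpIn ρ 0 (ev Cfsg.Agent.Spor.FiC.L22.x [0]) [0] X1 :=
  cm.perpIn_cons spec1 (fun e he => (comT e he).1) cm.perpIn_nil [] (by decide +kernel)

noncomputable def X2 : ℕ := nat_lit 0xc0000000000000000000000000000000000000000000000000000000000000000000000000000000004000000000000000000003800000000000000000000200000000000000000000d000000000000000000000000000000000000000000300000000000000000003800000000000000010000000000000000000000000008000000000000000000080000020000000000000002000000800008000000400800e000000000020000004000000000000000000001800020000040400180000000080002000000000000000000000010000004800001000e0120000000000000000100008081400400008010000800040800000000000000000000000002068100084024004002000000000000000000004000000000003080a00030c00000000000000000000000a08004100000682002360000000000000000000000008010c0004110100000000002000000000008080803808a020000000000000000081800c62a9000000000000000080a0285980000000000490810000000000229960000001917000000025800004aa000027200021370003c0001081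

theorem pi2 : PerpIn ρ 0 (ev Cfsg.Agent.Spor.FiC.L22.x [0]) [7, 0] X2 :=
  cm.perpIn_cons spec1 (fun e he => (comT e he).1) pi1 [7, 4, 3, 1, 2, 0, 1] (by decide +kernel)

noncomputable def wo2_S0 : ℕ := nat_lit 0xc0000000000000000000000000000000000000000000000000000000000000000000000000000000004000000000000000000003800000000000000000000200000000000000000000d000000000000000000000000000000000000000000300000000000000000003800000000000000010000000000000000000000000008000000000000000000080000020000000000000002000000800008000000400800e000000000020000004000000000000000000001800020000040400180000000080002000000000000000000000010000004800001000e0120000000000000000100008081400400008010000800040800000000000000000000000002068100084024004002000000000000000000004000000000003080a00030c00000000000000000000000a08004100000682002360000000000000000000000008010c0004110100000000002000000000008080803808a020000000000000000081800c62a9000000000000000080a0285980000000000490810000000000229960000001917000000025800004aa000027200021370003c0001000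

theorem wo2_0 : orbC act1 [7, 0] [[3, 7, 5, 4, 3, 1, 2, 0, 1, 0, 1, 0, 2, 1, 3, 4, 5, 7, 3], [7, 5, 4, 2, 3, 1, 2, 0, 1, 0, 1, 0, 2, 1, 3, 2, 4, 5, 7], [3, 7, 6, 5, 4, 3, 1, 2, 0, 1, 0, 1, 0, 2, 1, 3, 4, 5, 6, 7, 3], [7, 8, 3, 7, 6, 5, 4, 3, 1, 2, 0, 1, 0, 1, 0, 2, 1, 3, 4, 5, 6, 7, 3, 8, 7], [7, 8, 1, 2, 3, 7, 4, 3, 2, 1, 0, 1, 2, 3, 4, 7, 3, 2, 1, 8, 7], [7, 8, 4, 1, 2, 3, 7, 5, 4, 3, 2, 1, 0, 1, 2, 3, 4, 5, 7, 3, 2, 1, 4, 8, 7]] 3 (Nat.shiftLeft 1 12) wo2_S0 = true :=
  by decide +kernel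

theorem wo2 : OrbS π [7, 0] 12 wo2_S0 :=
  orbS_step spec1 (orbS_init π [7, 0] 12) wo2_0

noncomputable def X3 : ℕ := nat_lit 0xc000000000000000000000000000000000000000000000000000000000000000000000000000000000400000000000000000000200000000000000000000000000000000000000000000000000000000000000000000000000000000000000000000000000000000000000000000000000000000000000000000000000000000000000000000000000000000000000000000000000000000000000000000000000000000000000000000000000000000000000000000000000000000000000000000000000000000000000000000000000004000000000e0100000000000000000100008001400000000000000000000000000000000000000000000000068000004020000000000000000000000000004000000000000000a00020000000000000000000000000a0800410000008000000000000000000000000000000801080004000000000000002000000000000000000000000000000000000000000000000020000000000000000000002018000000000000000000000000000008400000000030000000058000000a00000200002020000140001081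

theorem pi3 : PerpIn ρ 0 (ev Cfsg.Agent.Spor.FiC.L22.x [0]) [12, 7, 0] X3 :=
  cm.perpIn_cons spec1 (fun e he => (comT e he).1) pi2 [3, 1, 2, 0, 1] (by decide +kernel)

noncomputable def wo3_S0 : ℕ := nat_lit 0xc00000000000000000000000000000000000000000000000000000000000000000000000000000000040000000000000000000020000000000000000000000000000000000000000000000000000000000000000000000000000000000000000000000000000000000000000000000000000000000000000000000000000000000000000000000000000000000000000000000000000000000000000000000000000000000000000000000000000000000000000000000000000000000000000000000000000000000000000000000000000400000000060100000000000000000100008001400000000000000000000000000000000000000000000000028000004020000000000000000000000000004000000000000000a00020000000000000000000000000a0800410000008000000000000000000000000000000801080004000000000000002000000000000000000000000000000000000000000000000020000000000000000000002018000000000000000000000000000008400000000030000000050000000a00000200002020000140000000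

theorem wo3_0 : orbC act1 [12, 7, 0] [[7, 8, 3, 7, 5, 4, 3, 1, 2, 0, 1, 0, 1, 0, 2, 1, 3, 4, 5, 7, 3, 8, 7], [8, 7, 5, 4, 3, 1, 2, 0, 1, 0, 1, 0, 2, 1, 3, 4, 5, 7, 8], [5, 3, 4, 1, 2, 3, 7, 6, 5, 4, 3, 2, 1, 0, 1, 2, 3, 4, 5, 6, 7, 3, 2, 1, 4, 3, 5], [4, 5, 3, 4, 2, 3, 7, 8, 5, 3, 4, 1, 2, 3, 7, 6, 5, 4, 3, 2, 1, 0, 1, 2, 3, 4, 5, 6, 7, 3, 2, 1, 4, 3, 5, 8, 7, 3, 2, 4, 3, 5, 4], [4, 2, 3, 1, 2, 0, 1, 0, 1, 0, 2, 1, 3, 2, 4], [1, 2, 3, 7, 4, 3, 2, 1, 0, 1, 2, 3, 4, 7, 3, 2, 1]] 2 (Nat.shiftLeft 1 32) wo3_S0 = true :=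
  by decide +kernel

theorem wo3 : OrbS π [12, 7, 0] 32 wo3_S0 :=
  orbS_step spec1 (orbS_init π [12, 7, 0] 32) wo3_0

noncomputable def X4 : ℕ := nat_lit 0xc0000000000000000000000000000000000000000000000000000000000000000000000000000000004000000000000000000002000000000000000000000000000000000000000000000000000000000000000000000000000000000000000000000000000000000000000000000000000000000000000000000000000000000000000000000000000000000000000000000000000000000000000000000000000000000000000000000000000000000000000000000000000000000000000000000000000000000000000000000000000040000000008010000000000000000000000000000000000000000000000000000000000000000000000000004000000000000000000000000000000000000000000000000000000000000000000000000000000000000000000000000000000000000000000000000000000000000000000000000000002000000000000000000000000000000000000000000000000020000000000000000000002018000000000000000000000000000008000000000020000000008000000000000000002000000140001081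

theorem pi4 : PerpIn ρ 0 (ev Cfsg.Agent.Spor.FiC.L22.x [0]) [32, 12, 7, 0] X4 :=
  cm.perpIn_cons spec1 (fun e he => (comT e he).1) pi3 [4, 2, 3, 1, 2, 0, 1] (by decide +kernel)

theorem cq4 : CliqueLe ρ 0 (ev Cfsg.Agent.Spor.FiC.L22.x [0]) [32, 12, 7, 0] 22 :=
  cm.cliqueLe_base (K := 12) pi4 (by decide +kernel)

theorem cq3 : CliqueLe ρ 0 (ev Cfsg.Agent.Spor.FiC.L22.x [0]) [12, 7, 0] 22 :=
  cm.cliqueLe_step (Y := 0x8000000000000000000000000000000000000000000000000000000000000000000000000000004000000000000000000000000000000000000000000000000000000000000000000000000000000000000000000000000000000000000000000000000000000000000000000000000000000000000000000000000000000000000000000000000000000000000000000000000000000000000000000000000000000000000000000000000000000000008000000000000000000000000000001081) (K := 12) pi3 wo3 (by decide +kernel) cq4 (by decide +kernel)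

theorem cq2 : CliqueLe ρ 0 (ev Cfsg.Agent.Spor.FiC.L22.x [0]) [7, 0] 22 :=
  cm.cliqueLe_step (Y := 0x81) (K := 12) pi2 wo2 (by decide +kernel) cq3 (by decide +kernel)

theorem cq1 : CliqueLe ρ 0 (ev Cfsg.Agent.Spor.FiC.L22.x [0]) [0] 22 :=
  cm.cliqueLe_step (Y := 0x1) (K := 12) pi1 soP1 (by decide +kernel) cq2 (by decide +kernel)

theorem cq0 : CliqueLe ρ 0 (ev Cfsg.Agent.Spor.FiC.L22.x [0]) [] 22 :=
  cm.cliqueLe_step (Y := 0) (K := 12) cm.perpIn_nil orb0S (by decide +kernel) cq1 (by decide +kernel)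

theorem width : Cfsg.Agent.TT.HasWidth (conjugatesOf (ev Cfsg.Agent.Spor.FiC.L22.x [0])) 22 :=
  cm.hasWidth spec1 (X := X4) (K := 12) (fun e he => (comT e he).2) [[], [3, 1, 2, 0, 1], [4, 2, 3, 1, 2, 0, 1], [7, 2, 3, 1, 2, 0, 1], [7, 4, 3, 1, 2, 0, 1], [1, 2, 3, 7, 4, 3, 2, 1], [5, 6, 4, 5, 3, 4, 2, 3, 1, 2, 0, 1], [5, 4, 3, 7, 6, 5, 4, 3, 1, 2, 0, 1], [5, 3, 4, 1, 2, 3, 7, 6, 5, 4, 3, 2, 1], [4, 5, 2, 3, 4, 1, 2, 3, 7, 6, 5, 4, 3, 2, 1], [7, 5, 2, 3, 4, 1, 2, 3, 7, 6, 5, 4, 3, 2, 1], [7, 4, 5, 3, 4, 1, 2, 3, 7, 6, 5, 4, 3, 2, 1], [5, 4, 3, 7, 2, 3, 4, 1, 2, 3, 7, 5, 4, 3, 2, 1], [1, 2, 3, 7, 4, 5, 3, 4, 2, 3, 7, 6, 5, 4, 3, 2, 0, 1], [8, 7, 3, 4, 2, 3, 7, 8, 5, 3, 4, 1, 2, 3, 7, 6, 5, 4, 3, 2, 1], [8, 7, 3, 4, 2, 3, 7, 8, 4, 5, 2, 3, 4, 1, 2, 3, 7, 6, 5, 4, 3, 2, 1], [8, 7, 3, 4, 2, 3, 7, 8, 7, 5, 2, 3, 4, 1, 2, 3, 7, 6, 5, 4, 3, 2, 1], [8, 7, 3, 4, 2, 3, 7, 8, 7, 4, 5, 3, 4, 1, 2, 3, 7, 6, 5, 4, 3, 2, 1], [8, 3, 7, 1, 2, 3, 4, 0, 1, 2, 3, 7, 8, 3, 4, 5, 2,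 3, 4, 1, 2, 3, 7, 6, 5, 4, 3, 2, 1], [8, 3, 7, 1, 2, 3, 4, 0, 1, 2, 3, 7, 8, 3, 7, 5, 2, 3, 4, 1, 2, 3, 7, 6, 5, 4, 3, 2, 1], [7, 8, 2, 3, 7, 1, 2, 3, 4, 0, 1, 2, 3, 7, 8, 3, 4, 5, 2, 3, 4, 1, 2, 3, 7, 6, 5, 4, 3, 2, 1], [7, 8, 4, 3, 7, 1, 2, 3, 4, 0, 1, 2, 3, 7, 8, 3, 4, 5, 2, 3, 4, 1, 2, 3, 7, 6, 5, 4, 3, 2, 1]]
    (by decide +kernel) (by decide +kernel) (by decide +kernel) (by decide +kernel) cq0

end Cfsg.Agent.Spor.FiC.M22
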