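import Cfsg.Agent.Spor.Fi.Cover23
import Cfsg.Agent.TT.HubModel

set_option autoImplicit false
set_option Elab.async false
set_option maxRecDepth 100000

namespace Cfsg.Agent.Spor.FiC.M23

open Cfsg.Agent.Comp.BN

theorem cmz : CModel Cfsg.Agent.Spor.FiC.P23 Cfsg.Agent.Spor.FiC.L23.x π [11246, 3, 2, 1, 0] ρ 0 (ones 31671) 31671 (ev Cfsg.Agent.Spor.FiC.L23.x zw) :=
  ⟨model, orb0, cent⟩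

theorem mv : CModel Cfsg.Agent.Spor.FiC.P23 Cfsg.Agent.Spor.FiC.L23.x π [11246, 3, 2, 1, 0] ρ 11589 (ones 31671) 31671 (ev Cfsg.Agent.Spor.FiC.L23.x [0]) ∧ IsConj (ev Cfsg.Agent.Spor.FiC.L23.x zw) (ev Cfsg.Agent.Spor.FiC.L23.x [0]) :=
  cmz.moveW spec1 rfl [1, 2, 3, 8, 4, 5, 3, 4, 2, 3, 8, 6, 7, 5, 6, 4, 5, 3, 4, 2, 3, 8, 0, 1, 2, 3, 4, 5, 6, 7] [0] (by decide +kernel)

theorem cm : CModel Cfsg.Agent.Spor.FiC.P23 Cfsg.Agent.Spor.FiC.L23.x π [11246, 3, 2, 1, 0] ρ 11589 (ones 31671) 31671 (ev Cfsg.Agent.Spor.FiC.L23.x [0]) :=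
  mv.1

theorem transA : Cfsg.IsThreeTranspositionClass (conjugatesOf (ev Cfsg.Agent.Spor.FiC.L23.x [0])) ∧ Nat.card (conjugatesOf (ev Cfsg.Agent.Spor.FiC.L23.x [0])) = 31671 :=
  mv.2.conjugatesOf_eq ▸ trans

theorem center : Subgroup.center Cfsg.Spor.Fi23 = ⊥ :=
  cmz.center_eq_bot (by decide +kernel)

theorem aff : ∃ a ∈ (conjugatesOf (ev Cfsg.Agent.Spor.FiC.L23.x [0])), ∃ b ∈ (conjugatesOf (ev Cfsg.Agent.Spor.FiC.L23.x [0])), ∃ c ∈ (conjugatesOf (ev Cfsg.Agent.Spor.FiC.L23.x [0])), Cfsg.Agent.TT.Aff a b c :=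
  ⟨_, cm.cw_mem _, _, cm.cw_mem _, _, cm.cw_mem _, cm.aff spec1 [] [1] [2, 3, 8, 9, 4, 3, 8, 5, 4, 3, 2, 1] (by decide +kernel) (by decide +kernel)⟩

def fr : List (List ℕ) := [[8, 3, 1, 2, 0, 1], [4, 3, 1, 2, 0, 1], [3, 2, 1], [2, 0, 1]]

theorem o3_0 : allL (locC act1 Cfsg.Agent.Spor.FiC.P23.I [0] 11589 [5, 4, 2, 3, 8, 6, 5, 4, 3, 2, 1]) ([3, 8, 4, 3, 2, 0, 1] :: [5, 4, 3, 8, 2, 3, 4, 1, 2, 3, 8, 5, 4, 3, 2, 1] :: [8, 4, 3, 2, 1] :: fr) = true :=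
  by decide +kernel

theorem o3_1 : allL (locC act1 Cfsg.Agent.Spor.FiC.P23.I [0] 11589 [3, 8, 4, 3, 2, 0, 1]) ([5, 4, 3, 8, 2, 3, 4, 1, 2, 3, 8, 5, 4, 3, 2, 1] :: [8, 4, 3, 2, 1] :: fr) = true :=
  by decide +kernel

theorem o3_2 : allL (locC act1 Cfsg.Agent.Spor.FiC.P23.I [0] 11589 [5, 4, 3, 8, 2, 3, 4, 1, 2, 3, 8, 5, 4, 3, 2, 1]) ([8, 4, 3, 2, 1] :: fr) = true :=
  by decide +kernel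

theorem o3_3 : allL (locC act1 Cfsg.Agent.Spor.FiC.P23.I [0] 11589 [8, 4, 3, 2, 1]) (fr) = true :=
  by decide +kernel

theorem o3_4 : fixC act1 [11246, 3, 2, 1, 0] (prodW Cfsg.Agent.Spor.FiC.P23.I [0] ([3, 8, 4, 3, 2, 0, 1] :: [5, 4, 3, 8, 2, 3, 4, 1, 2, 3, 8, 5, 4, 3, 2, 1] :: [8, 4, 3, 2, 1] :: fr)) = true :=
  by decide +kernel

theorem notO3 : ∀ m, ¬ Cfsg.Agent.TT.IsO3 (conjugatesOf (ev Cfsg.Agent.Spor.FiC.L23.x [0])) m :=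
  cm.not_isO3 spec1 _ _ _ _ _ o3_0 o3_1 o3_2 o3_3 o3_4

theorem cl0 : ev Cfsg.Agent.Spor.FiC.L23.x [0] ∈ Subgroup.closure (Cfsg.Agent.TT.loc (conjugatesOf (ev Cfsg.Agent.Spor.FiC.L23.x [0])) (ev Cfsg.Agent.Spor.FiC.L23.x (conjW Cfsg.Agent.Spor.FiC.P23.I [7, 6, 5, 4, 3, 8, 2, 3, 4, 1, 2, 3, 8, 5, 6, 4, 5, 3, 4, 2, 3, 8, 7, 6, 5, 4, 3, 2, 0, 1] [0]))) :=
  cm.mem_closure_loc spec1 _ [[]] (by decide +kernel)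

theorem cl1 : ev Cfsg.Agent.Spor.FiC.L23.x [1] ∈ Subgroup.closure (Cfsg.Agent.TT.loc (conjugatesOf (ev Cfsg.Agent.Spor.FiC.L23.x [0])) (ev Cfsg.Agent.Spor.FiC.L23.x (conjW Cfsg.Agent.Spor.FiC.P23.I [7, 6, 5, 4, 3, 8, 2, 3, 4, 1, 2, 3, 8, 5, 6, 4, 5, 3, 4, 2, 3, 8, 7, 6, 5, 4, 3, 2, 0, 1] [0]))) :=
  cm.mem_closure_loc spec1 _ [[0, 1]] (by decide +kernel)

theorem cl2 : ev Cfsg.Agent.Spor.FiC.L23.x [2] ∈ Subgroup.closure (Cfsg.Agent.TT.loc (conjugatesOf (ev Cfsg.Agent.Spor.FiC.L23.x [0])) (ev Cfsg.Agent.Spor.FiC.L23.x (conjW Cfsg.Agent.Spor.FiC.P23.I [7, 6, 5, 4, 3, 8, 2, 3, 4, 1, 2, 3, 8, 5, 6, 4, 5, 3, 4, 2, 3, 8, 7, 6, 5, 4, 3, 2, 0, 1] [0]))) :=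
  cm.mem_closure_loc spec1 _ [[1, 2, 0, 1]] (by decide +kernel)

theorem cl3 : ev Cfsg.Agent.Spor.FiC.L23.x [3] ∈ Subgroup.closure (Cfsg.Agent.TT.loc (conjugatesOf (ev Cfsg.Agent.Spor.FiC.L23.x [0])) (ev Cfsg.Agent.Spor.FiC.L23.x (conjW Cfsg.Agent.Spor.FiC.P23.I [7, 6, 5, 4, 3, 8, 2, 3, 4, 1, 2, 3, 8, 5, 6, 4, 5, 3, 4, 2, 3, 8, 7, 6, 5, 4, 3, 2, 0, 1] [0]))) :=
  cm.mem_closure_loc spec1 _ [[2, 3, 1, 2, 0, 1]] (by decide +kernel)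

theorem cl4 : ev Cfsg.Agent.Spor.FiC.L23.x [4] ∈ Subgroup.closure (Cfsg.Agent.TT.loc (conjugatesOf (ev Cfsg.Agent.Spor.FiC.L23.x [0])) (ev Cfsg.Agent.Spor.FiC.L23.x (conjW Cfsg.Agent.Spor.FiC.P23.I [7, 6, 5, 4, 3, 8, 2, 3, 4, 1, 2, 3, 8, 5, 6, 4, 5, 3, 4, 2, 3, 8, 7, 6, 5, 4, 3, 2, 0, 1] [0]))) :=
  cm.mem_closure_loc spec1 _ [[3, 4, 2, 3, 1, 2, 0, 1]] (by decide +kernel)

theorem cl5 : ev Cfsg.Agent.Spor.FiC.L23.x [5] ∈ Subgroup.closure (Cfsg.Agent.TT.loc (conjugatesOf (ev Cfsg.Agent.Spor.FiC.L23.x [0])) (ev Cfsg.Agent.Spor.FiC.L23.x (conjW Cfsg.Agent.Spor.FiC.P23.I [7, 6, 5, 4, 3, 8, 2, 3, 4, 1, 2, 3, 8, 5, 6, 4, 5, 3, 4, 2, 3, 8, 7, 6, 5, 4, 3, 2, 0, 1] [0]))) :=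
  cm.mem_closure_loc spec1 _ [[4, 5, 3, 4, 2, 3, 1, 2, 0, 1]] (by decide +kernel)

theorem cl6 : ev Cfsg.Agent.Spor.FiC.L23.x [6] ∈ Subgroup.closure (Cfsg.Agent.TT.loc (conjugatesOf (ev Cfsg.Agent.Spor.FiC.L23.x [0])) (ev Cfsg.Agent.Spor.FiC.L23.x (conjW Cfsg.Agent.Spor.FiC.P23.I [7, 6, 5, 4, 3, 8, 2, 3, 4, 1, 2, 3, 8, 5, 6, 4, 5, 3, 4, 2, 3, 8, 7, 6, 5, 4, 3, 2, 0, 1] [0]))) :=
  cm.mem_closure_loc spec1 _ [[5, 6, 4, 5, 3, 4, 2, 3, 1, 2, 0, 1]] (by decide +kernel)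

theorem cl7 : ev Cfsg.Agent.Spor.FiC.L23.x [8] ∈ Subgroup.closure (Cfsg.Agent.TT.loc (conjugatesOf (ev Cfsg.Agent.Spor.FiC.L23.x [0])) (ev Cfsg.Agent.Spor.FiC.L23.x (conjW Cfsg.Agent.Spor.FiC.P23.I [7, 6, 5, 4, 3, 8, 2, 3, 4, 1, 2, 3, 8, 5, 6, 4, 5, 3, 4, 2, 3, 8, 7, 6, 5, 4, 3, 2, 0, 1] [0]))) :=
  cm.mem_closure_loc spec1 _ [[3, 8, 2, 3, 1, 2, 0, 1]] (by decide +kernel)

theorem cl8 : ev Cfsg.Agent.Spor.FiC.L23.x [9] ∈ Subgroup.closure (Cfsg.Agent.TT.loc (conjugatesOf (ev Cfsg.Agent.Spor.FiC.L23.x [0])) (ev Cfsg.Agent.Spor.FiC.L23.x (conjW Cfsg.Agent.Spor.FiC.P23.I [7, 6, 5, 4, 3, 8, 2, 3, 4, 1, 2, 3, 8, 5, 6, 4, 5, 3, 4, 2, 3, 8, 7, 6, 5, 4, 3, 2, 0, 1] [0]))) :=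
  cm.mem_closure_loc spec1 _ [[8, 9, 3, 8, 2, 3, 1, 2, 0, 1]] (by decide +kernel)

theorem centD : ∀ d ∈ (conjugatesOf (ev Cfsg.Agent.Spor.FiC.L23.x [0])), Subgroup.centralizer {d} = Subgroup.closure (Cfsg.Agent.TT.loc (conjugatesOf (ev Cfsg.Agent.Spor.FiC.L23.x [0])) d) :=
  fun _ hd => cm.cent_closure spec1 transA.1 [7, 6, 5, 4, 3, 8, 2, 3, 4, 1, 2, 3, 8, 5, 6, 4, 5, 3, 4, 2, 3, 8, 7, 6, 5, 4, 3, 2, 0, 1] (by decide +kernel) hstab ⟨cl0, cl1, cl2, cl3, cl4, cl5, cl6, cl7, cl8, trivial⟩ hd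

end Cfsg.Agent.Spor.FiC.M23
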