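import Cfsg.Agent.Spor.Fi.Even24
import Cfsg.Agent.TT.HubModel

set_option autoImplicit false
set_option Elab.async false
set_option maxRecDepth 100000

namespace Cfsg.Agent.Spor.FiC.M24

open Cfsg.Agent.Comp.BN

theorem cent : Subgroup.centralizer {ev Cfsg.Agent.Spor.FiC.L24.x [0]} = fixS ρ [0] :=
  model.centralizer_eq spec orb0 prim cover (hstab ▸ model.le_centralizer spec (by decide +kernel)) [1] 0 (by decide +kernel)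

theorem cm : CModel Cfsg.Agent.Spor.FiC.P24 Cfsg.Agent.Spor.FiC.L24.x π [17210, 301189, 3, 1, 72450, 0] ρ 0 (ones 306936) 306936 (ev Cfsg.Agent.Spor.FiC.L24.x [0]) :=
  ⟨model, orb0, cent⟩

theorem tr0 : TransOn ρ 0 (ev Cfsg.Agent.Spor.FiC.L24.x [0]) so0S_S0 :=
  model.transOn spec cent soP0 [1] 3 (by simp) (by decide +kernel)

theorem tr1 : TransOn ρ 0 (ev Cfsg.Agent.Spor.FiC.L24.x [0]) so1S_S0 :=
  model.transOn spec cent soP1 [1, 2, 0, 1] 2 (by simp) (by decide +kernel)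

theorem orda : orderOf (ev Cfsg.Agent.Spor.FiC.L24.x [0]) = 2 :=
  model.orderOf_prime spec Nat.prime_two 1 (by decide +kernel)

theorem transA : Cfsg.IsThreeTranspositionClass (conjugatesOf (ev Cfsg.Agent.Spor.FiC.L24.x [0])) ∧ Nat.card (conjugatesOf (ev Cfsg.Agent.Spor.FiC.L24.x [0])) = 306936 :=
  model.threeTrans orb0 cent orda (Ts := [so0S_S0, so1S_S0]) ⟨tr0, tr1, trivial⟩ cover
    (model.normal_top spec [0] [(0, [12, 0]), (1, [0, 1, 0, 1, 0, 1]), (2, [1, 2, 1, 2, 1, 2]), (3, [2, 3, 2, 3, 2, 3]), (4, [3, 4, 3, 4, 3, 4]), (5, [4, 5, 4, 5, 4, 5]), (6, [5, 6, 5, 6, 5, 6]), (7, [6, 7, 6, 7, 6, 7]), (8, [7, 8, 7, 8, 7, 8]), (10, [5, 10, 5, 10, 5, 10]), (11, [10, 11, 10, 11, 10, 11]), (9, [8, 9, 8, 9, 8, 9])] (by decide +kernel) (by decide +kernel))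

theorem center : Subgroup.center Cfsg.Spor.Fi24 = ⊥ :=
  cm.center_eq_bot (by decide +kernel)

theorem conjA : IsConj (ev Cfsg.Agent.Spor.FiC.L24.x [0]) (ev Cfsg.Agent.Spor.FiC.L24.x [2]) :=
  model.isConj spec [1, 2, 0, 1] (by decide +kernel)

theorem aff : ∃ a ∈ (conjugatesOf (ev Cfsg.Agent.Spor.FiC.L24.x [0])), ∃ b ∈ (conjugatesOf (ev Cfsg.Agent.Spor.FiC.L24.x [0])), ∃ c ∈ (conjugatesOf (ev Cfsg.Agent.Spor.FiC.L24.x [0])), Cfsg.Agent.TT.Aff a b c :=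
  ⟨_, cm.cw_mem _, _, cm.cw_mem _, _, cm.cw_mem _, cm.aff spec [] [1] [2, 3, 4, 5, 10, 11, 6, 5, 10, 7, 6, 5, 4, 3, 2, 1] (by decide +kernel) (by decide +kernel)⟩

def fr : List (List ℕ) := [[10, 5, 3, 4, 2, 3, 1, 2, 0, 1], [10, 6, 5, 4, 2, 3, 1, 2, 0, 1], [5, 10, 6, 5, 4, 3, 1, 2, 0, 1], [1, 2, 3, 4, 5, 10, 6, 5, 4, 3, 2, 1], []]

theorem o3_0 : allL (locC act Cfsg.Agent.Spor.FiC.P24.I [0] 0 [7, 8, 6, 7, 5, 6, 4, 5, 3, 4, 2, 3, 1, 2, 0, 1]) ([4, 3, 1, 2, 0, 1] :: [5, 4, 2, 3, 1, 2, 0, 1] :: [6, 5, 3, 4, 2, 3, 1, 2, 0, 1] :: fr) = true :=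
  by decide +kernel

theorem o3_1 : allL (locC act Cfsg.Agent.Spor.FiC.P24.I [0] 0 [4, 3, 1, 2, 0, 1]) ([5, 4, 2, 3, 1, 2, 0, 1] :: [6, 5, 3, 4, 2, 3, 1, 2, 0, 1] :: fr) = true :=
  by decide +kernel

theorem o3_2 : allL (locC act Cfsg.Agent.Spor.FiC.P24.I [0] 0 [5, 4, 2, 3, 1, 2, 0, 1]) ([6, 5, 3, 4, 2, 3, 1, 2, 0, 1] :: fr) = true :=
  by decide +kernel

theorem o3_3 : allL (locC act Cfsg.Agent.Spor.FiC.P24.I [0] 0 [6, 5, 3, 4, 2, 3, 1, 2, 0, 1]) (fr) = true :=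
  by decide +kernel

theorem o3_4 : fixC act [17210, 301189, 3, 1, 72450, 0] (prodW Cfsg.Agent.Spor.FiC.P24.I [0] ([4, 3, 1, 2, 0, 1] :: [5, 4, 2, 3, 1, 2, 0, 1] :: [6, 5, 3, 4, 2, 3, 1, 2, 0, 1] :: fr)) = true :=
  by decide +kernel

theorem notO3 : ∀ m, ¬ Cfsg.Agent.TT.IsO3 (conjugatesOf (ev Cfsg.Agent.Spor.FiC.L24.x [0])) m :=
  cm.not_isO3 spec _ _ _ _ _ o3_0 o3_1 o3_2 o3_3 o3_4

theorem cl0 : ev Cfsg.Agent.Spor.FiC.L24.x [2] ∈ Subgroup.closure (Cfsg.Agent.TT.loc (conjugatesOf (ev Cfsg.Agent.Spor.FiC.L24.x [0])) (ev Cfsg.Agent.Spor.FiC.L24.x (conjW Cfsg.Agent.Spor.FiC.P24.I [] [0]))) :=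
  cm.mem_closure_loc spec _ [[1, 2, 0, 1]] (by decide +kernel)

theorem cl1 : ev Cfsg.Agent.Spor.FiC.L24.x [3] ∈ Subgroup.closure (Cfsg.Agent.TT.loc (conjugatesOf (ev Cfsg.Agent.Spor.FiC.L24.x [0])) (ev Cfsg.Agent.Spor.FiC.L24.x (conjW Cfsg.Agent.Spor.FiC.P24.I [] [0]))) :=
  cm.mem_closure_loc spec _ [[2, 3, 1, 2, 0, 1]] (by decide +kernel)

theorem cl2 : ev Cfsg.Agent.Spor.FiC.L24.x [4] ∈ Subgroup.closure (Cfsg.Agent.TT.loc (conjugatesOf (ev Cfsg.Agent.Spor.FiC.L24.x [0])) (ev Cfsg.Agent.Spor.FiC.L24.x (conjW Cfsg.Agent.Spor.FiC.P24.I [] [0]))) :=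
  cm.mem_closure_loc spec _ [[3, 4, 2, 3, 1, 2, 0, 1]] (by decide +kernel)

theorem cl3 : ev Cfsg.Agent.Spor.FiC.L24.x [5] ∈ Subgroup.closure (Cfsg.Agent.TT.loc (conjugatesOf (ev Cfsg.Agent.Spor.FiC.L24.x [0])) (ev Cfsg.Agent.Spor.FiC.L24.x (conjW Cfsg.Agent.Spor.FiC.P24.I [] [0]))) :=
  cm.mem_closure_loc spec _ [[4, 5, 3, 4, 2, 3, 1, 2, 0, 1]] (by decide +kernel)

theorem cl4 : ev Cfsg.Agent.Spor.FiC.L24.x [6] ∈ Subgroup.closure (Cfsg.Agent.TT.loc (conjugatesOf (ev Cfsg.Agent.Spor.FiC.L24.x [0])) (ev Cfsg.Agent.Spor.FiC.L24.x (conjW Cfsg.Agent.Spor.FiC.P24.I [] [0]))) :=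
  cm.mem_closure_loc spec _ [[5, 6, 4, 5, 3, 4, 2, 3, 1, 2, 0, 1]] (by decide +kernel)

theorem cl5 : ev Cfsg.Agent.Spor.FiC.L24.x [7] ∈ Subgroup.closure (Cfsg.Agent.TT.loc (conjugatesOf (ev Cfsg.Agent.Spor.FiC.L24.x [0])) (ev Cfsg.Agent.Spor.FiC.L24.x (conjW Cfsg.Agent.Spor.FiC.P24.I [] [0]))) :=
  cm.mem_closure_loc spec _ [[6, 7, 5, 6, 4, 5, 3, 4, 2, 3, 1, 2, 0, 1]] (by decide +kernel)

theorem cl6 : ev Cfsg.Agent.Spor.FiC.L24.x [8] ∈ Subgroup.closure (Cfsg.Agent.TT.loc (conjugatesOf (ev Cfsg.Agent.Spor.FiC.L24.x [0])) (ev Cfsg.Agent.Spor.FiC.L24.x (conjW Cfsg.Agent.Spor.FiC.P24.I [] [0]))) :=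
  cm.mem_closure_loc spec _ [[7, 8, 6, 7, 5, 6, 4, 5, 3, 4, 2, 3, 1, 2, 0, 1]] (by decide +kernel)

theorem cl7 : ev Cfsg.Agent.Spor.FiC.L24.x [9] ∈ Subgroup.closure (Cfsg.Agent.TT.loc (conjugatesOf (ev Cfsg.Agent.Spor.FiC.L24.x [0])) (ev Cfsg.Agent.Spor.FiC.L24.x (conjW Cfsg.Agent.Spor.FiC.P24.I [] [0]))) :=
  cm.mem_closure_loc spec _ [[8, 9, 7, 8, 6, 7, 5, 6, 4, 5, 3, 4, 2, 3, 1, 2, 0, 1]] (by decide +kernel)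

theorem cl8 : ev Cfsg.Agent.Spor.FiC.L24.x [10] ∈ Subgroup.closure (Cfsg.Agent.TT.loc (conjugatesOf (ev Cfsg.Agent.Spor.FiC.L24.x [0])) (ev Cfsg.Agent.Spor.FiC.L24.x (conjW Cfsg.Agent.Spor.FiC.P24.I [] [0]))) :=
  cm.mem_closure_loc spec _ [[5, 10, 4, 5, 3, 4, 2, 3, 1, 2, 0, 1]] (by decide +kernel)

theorem cl9 : ev Cfsg.Agent.Spor.FiC.L24.x [11] ∈ Subgroup.closure (Cfsg.Agent.TT.loc (conjugatesOf (ev Cfsg.Agent.Spor.FiC.L24.x [0])) (ev Cfsg.Agent.Spor.FiC.L24.x (conjW Cfsg.Agent.Spor.FiC.P24.I [] [0]))) :=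
  cm.mem_closure_loc spec _ [[10, 11, 5, 10, 4, 5, 3, 4, 2, 3, 1, 2, 0, 1]] (by decide +kernel)

theorem cl10 : ev Cfsg.Agent.Spor.FiC.L24.x [0] ∈ Subgroup.closure (Cfsg.Agent.TT.loc (conjugatesOf (ev Cfsg.Agent.Spor.FiC.L24.x [0])) (ev Cfsg.Agent.Spor.FiC.L24.x (conjW Cfsg.Agent.Spor.FiC.P24.I [] [0]))) :=
  cm.mem_closure_loc spec _ [[4, 3, 1, 2, 0, 1], [5, 4, 2, 3, 1, 2, 0, 1], [6, 5, 3, 4, 2, 3, 1, 2, 0, 1], [10, 5, 3, 4, 2, 3, 1, 2, 0, 1], [10, 6, 5, 4, 2, 3, 1, 2, 0, 1], [5, 10, 6, 5, 4, 3, 1, 2, 0, 1], [1, 2, 3, 4, 5, 10, 6, 5, 4, 3, 2, 1]] (by decide +kernel)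

theorem centD : ∀ d ∈ (conjugatesOf (ev Cfsg.Agent.Spor.FiC.L24.x [0])), Subgroup.centralizer {d} = Subgroup.closure (Cfsg.Agent.TT.loc (conjugatesOf (ev Cfsg.Agent.Spor.FiC.L24.x [0])) d) :=
  fun _ hd => cm.cent_closure spec transA.1 [] (by decide +kernel) hstab ⟨cl0, cl1, cl2, cl3, cl4, cl5, cl6, cl7, cl8, cl9, cl10, trivial⟩ hd

end Cfsg.Agent.Spor.FiC.M24
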