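import Cfsg.Agent.Spor.Fi.Net22
import Cfsg.Agent.Spor.Fi.B22
import Cfsg.Agent.Spor.Fi.Link22

set_option autoImplicit false
set_option Elab.async false
set_option maxRecDepth 100000

namespace Cfsg.Agent.Spor.FiC.M22

open Cfsg.Agent.Comp.BN

def ws : List (List ℕ) := [[0], [2], [3], [4], [5], [6], [7], [8], [0, 1, 2, 3, 4, 7, 0, 1, 2, 3, 4, 7, 0, 1, 2, 3, 4, 7, 0, 1, 2, 3, 4, 7, 0, 1, 2, 3, 4, 7]]

theorem orb0S_0 : orbC Cfsg.Agent.Spor.FiC.M22.act [] [[0], [1], [2], [3], [4], [5], [6], [7], [8]] 6 (Nat.shiftLeft 1 0) (ones 3510) = true :=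
  by decide +kernel

theorem orb0S : OrbS Cfsg.Agent.Spor.FiC.M22.π [] 0 (ones 3510) :=
  orbS_step Cfsg.Agent.Spor.FiC.M22.spec (orbS_init Cfsg.Agent.Spor.FiC.M22.π [] 0) orb0S_0

theorem orb0 : PModel.IsOrbit Cfsg.Agent.Spor.FiC.M22.π 0 (ones 3510) 3510 :=
  PModel.isOrbit_of Cfsg.Agent.Spor.FiC.M22.spec (nl := 9) (K := 12) Cfsg.Agent.Spor.FiC.M22.out orb0S (by decide +kernel)

theorem hfix : allL (fixC Cfsg.Agent.Spor.FiC.M22.act [0]) ws = true :=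
  by decide +kernel

noncomputable def so0S_S0 : ℕ := nat_lit 0x3ffffffffffffffffffffffffffe7ffffffffffffffffffffffffffff6ff3ffffffffffffdfffffffffffff6ffffffffffffff6fff1fffffffffffffffffffafffffffffffffffb4ffffffffffffffd9fffc7fffffffffffffffffffedff97ffffffffffffffe327ffffffffffdfe4fffcffffffffffffff6ffffffffcbfe1effffffffffffffc43ffffffffdfc3ffefffffffffffffffff27fffffff87fc3e8fffffffffffff03fffffcfc3ffdfffffffffdfffffe7fffc1fffffe1fe17c1fffffeffff07fff9f0fffffffdffffff8fffffc3fff83fffc3f03fc1fffe7fb87fe387ffffffffc7ffff7f83fffc3fe1ff8781ffc3ff1f61f98ffffffffffffb87fff7e7c3ff0fc3f180ffde1f9d8e47ffffffffffffffff3e1ff9ff1f87e38e23fc3f78e68c9fffffffffffffffffd3f0ffdf1f8e38c641ff1ce3210ffffffffffffffffffcf1f1df8e38c6481dc64407fffffffffffffffffff0f8e31c632401a2003fffffffffdffffffffff01c64648010001ffffffffffffffffe006420000005fffffffffffff0020000067fffffffffe0000013ffffffff00001ffffffe0003fffffc007ffff800ffff000fffd000fffc01ffc67e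

theorem so0S_0 : orbC (subAct Cfsg.Agent.Spor.FiC.M22.act ws) [] [[0], [1], [2], [3], [4], [5], [6], [7], [8]] 5 (Nat.shiftLeft 1 1) so0S_S0 = true :=
  by decide +kernel

theorem so0S : OrbS (subT Cfsg.Agent.Spor.FiC.M22.π ws) [] 1 so0S_S0 :=
  orbS_step (Cfsg.Agent.Spor.FiC.M22.spec.sub ws) (orbS_init (subT Cfsg.Agent.Spor.FiC.M22.π ws) [] 1) so0S_0

theorem so0 : PModel.IsOrbit (subT Cfsg.Agent.Spor.FiC.M22.π ws) 1 so0S_S0 2816 :=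
  PModel.isOrbit_of (Cfsg.Agent.Spor.FiC.M22.spec.sub ws) (nl := ws.length) (K := 12) (PModel.subT_out Cfsg.Agent.Spor.FiC.M22.π ws) so0S (by decide +kernel)

noncomputable def so1S_S0 : ℕ := nat_lit 0x180000000000000000000000000000900c000000000000200000000000009000000000000009000e000000000000000000050000000000000004b0000000000000026000380000000000000000000120068000000000000001cd80000000000201b0003000000000000009000000003401e1000000000000003bc00000000203c00100000000000000000d800000007803c170000000000000fc00000303c002000000000200000180003e000001e01e83e0000010000f800060f000000020000007000003c0007c0003c0fc03e00018047801c7800000000380000807c0003c01e00787e003c00e09e0670000000000004780008183c00f03c0e7f0021e06271b80000000000000000c1e00600e0781c71dc03c08719736000000000000000002c0f0020e071c739be00e31cdef00000000000000000030e0e2071c739b7e239bbf80000000000000000000f071ce39cdbfe5dffc00000000020000000000fe39b9b7fefffe00000000000000001ff9bdffffffa0000000000000ffdfffff980000000001fffffec00000000ffffe0000001fffc000003ff800007ff0000fff0002fff0003fe003980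

theorem so1S_0 : orbC (subAct Cfsg.Agent.Spor.FiC.M22.act ws) [] [[0], [1], [2], [3], [4], [5], [6], [7], [8]] 4 (Nat.shiftLeft 1 7) so1S_S0 = true :=
  by decide +kernel

theorem so1S : OrbS (subT Cfsg.Agent.Spor.FiC.M22.π ws) [] 7 so1S_S0 :=
  orbS_step (Cfsg.Agent.Spor.FiC.M22.spec.sub ws) (orbS_init (subT Cfsg.Agent.Spor.FiC.M22.π ws) [] 7) so1S_0

theorem so1 : PModel.IsOrbit (subT Cfsg.Agent.Spor.FiC.M22.π ws) 7 so1S_S0 693 :=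
  PModel.isOrbit_of (Cfsg.Agent.Spor.FiC.M22.spec.sub ws) (nl := ws.length) (K := 12) (PModel.subT_out Cfsg.Agent.Spor.FiC.M22.π ws) so1S (by decide +kernel)

theorem chH_l0 : LevelOK (subT Cfsg.Agent.Spor.FiC.M22.π ws) [] 1 2816 :=
  so0.level

theorem chH_c1 : levelC (subAct Cfsg.Agent.Spor.FiC.M22.act ws) 12 [1] 473 [[2], [3], [4], [5], [6], [7], [8]] 7 567 = true :=
  by decide +kernel

theorem chH_l1 : LevelOK (subT Cfsg.Agent.Spor.FiC.M22.π ws) [1] 473 567 :=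
  level_of_check (Cfsg.Agent.Spor.FiC.M22.spec.sub ws) chH_c1

theorem chH_c2 : levelC (subAct Cfsg.Agent.Spor.FiC.M22.act ws) 12 [473, 1] 34 [[2], [3], [4], [5], [6], [8]] 4 320 = true :=
  by decide +kernel

theorem chH_l2 : LevelOK (subT Cfsg.Agent.Spor.FiC.M22.π ws) [473, 1] 34 320 :=
  level_of_check (Cfsg.Agent.Spor.FiC.M22.spec.sub ws) chH_c2

theorem chH_c3 : levelC (subAct Cfsg.Agent.Spor.FiC.M22.act ws) 12 [34, 473, 1] 362 [[2], [4], [5], [6]] 2 36 = true :=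
  by decide +kernel

theorem chH_l3 : LevelOK (subT Cfsg.Agent.Spor.FiC.M22.π ws) [34, 473, 1] 362 36 :=
  level_of_check (Cfsg.Agent.Spor.FiC.M22.spec.sub ws) chH_c3

theorem chH : ChainOK (subT Cfsg.Agent.Spor.FiC.M22.π ws) [] [(1, 2816), (473, 567), (34, 320), (362, 36)] :=
  ⟨chH_l0, chH_l1, chH_l2, chH_l3, trivial⟩

theorem ch : ChainOK Cfsg.Agent.Spor.FiC.M22.π [] [(0, 3510), (1, 2816), (473, 567), (34, 320), (362, 36)] :=
  ⟨orb0.level, ChainOK.of_sub Cfsg.Agent.Spor.FiC.M22.spec hfix chH⟩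

theorem mod : Nat.card Cfsg.Spor.Fi22 = 64561751654400 ∧ ∃ ρ, PModel Cfsg.Agent.Spor.FiC.P22 Cfsg.Agent.Spor.FiC.L22.x Cfsg.Agent.Spor.FiC.M22.π [362, 34, 473, 1, 0] ρ :=
  Cfsg.Agent.Spor.FiC.L22.link.1.model Cfsg.Agent.Spor.FiC.B22.bound sat ch (by decide)

theorem card : Nat.card Cfsg.Spor.Fi22 = 64561751654400 :=
  mod.1

noncomputable def ρ : Cfsg.Spor.Fi22 →* Equiv.Perm ℕ := Classical.choose mod.2

theorem model : PModel Cfsg.Agent.Spor.FiC.P22 Cfsg.Agent.Spor.FiC.L22.x Cfsg.Agent.Spor.FiC.M22.π [362, 34, 473, 1, 0] ρ :=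
  Classical.choose_spec mod.2

theorem hstab : gen (subT Cfsg.Agent.Spor.FiC.L22.x ws) = fixS ρ [0] :=
  model.sub_eq_stab Cfsg.Agent.Spor.FiC.M22.spec orb0 hfix chH (card.le.trans (by decide))

theorem soP0 : OrbS Cfsg.Agent.Spor.FiC.M22.π [0] 1 so0S_S0 :=
  OrbS.of_sub Cfsg.Agent.Spor.FiC.M22.spec so0.orbS hfix

theorem soP1 : OrbS Cfsg.Agent.Spor.FiC.M22.π [0] 7 so1S_S0 :=
  OrbS.of_sub Cfsg.Agent.Spor.FiC.M22.spec so1.orbS hfix

theorem prim0 : PrimOn Cfsg.Agent.Spor.FiC.M22.π 0 (ones 3510) so0S_S0 :=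
  primOn_of_letters Cfsg.Agent.Spor.FiC.M22.spec (g := [1]) (hs := ws) (by decide +kernel) soP0 orb0 Cfsg.Agent.Spor.FiC.M22.out (by decide +kernel)

theorem prim1 : PrimOn Cfsg.Agent.Spor.FiC.M22.π 0 (ones 3510) so1S_S0 :=
  PrimOn.of_word Cfsg.Agent.Spor.FiC.M22.spec (g := [7, 4, 3, 1, 2, 0, 1]) (hs := ws) prim0 (by decide +kernel) soP1 [0, 0] (by decide +kernel)

theorem prim : AllP (PrimOn Cfsg.Agent.Spor.FiC.M22.π 0 (ones 3510)) [so0S_S0, so1S_S0] :=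
  ⟨prim0, prim1, trivial⟩

theorem cover : subs (ones 3510) (orL [so0S_S0, so1S_S0] (Nat.shiftLeft 1 0)) = true :=
  by decide +kernel

theorem st0 : fixC Cfsg.Agent.Spor.FiC.M22.act [362, 34, 473, 1, 0] (substU Cfsg.Agent.Spor.FiC.P22.inv.length [4, 5, 7, 3, 2, 1, 8, 6] [9, 1, 9, 1, 9, 1, 9, 1, 9, 1, 9, 1, 9, 1, 9, 1, 9, 1]) = true :=
  by decide +kernel

theorem st1 : fixC Cfsg.Agent.Spor.FiC.M22.act [362, 34, 473, 1, 0] (substU Cfsg.Agent.Spor.FiC.P22.inv.length [4, 5, 7, 3, 2, 1, 8, 6] [0, 1, 0, 1, 0, 1]) = true :=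
  by decide +kernel

theorem st2 : fixC Cfsg.Agent.Spor.FiC.M22.act [362, 34, 473, 1, 0] (substU Cfsg.Agent.Spor.FiC.P22.inv.length [4, 5, 7, 3, 2, 1, 8, 6] [1, 2, 1, 2, 1, 2]) = true :=
  by decide +kernel

theorem st3 : fixC Cfsg.Agent.Spor.FiC.M22.act [362, 34, 473, 1, 0] (substU Cfsg.Agent.Spor.FiC.P22.inv.length [4, 5, 7, 3, 2, 1, 8, 6] [2, 3, 2, 3, 2, 3]) = true :=
  by decide +kernel

theorem st4 : fixC Cfsg.Agent.Spor.FiC.M22.act [362, 34, 473, 1, 0] (substU Cfsg.Agent.Spor.FiC.P22.inv.length [4, 5, 7, 3, 2, 1, 8, 6] [3, 4, 3, 4, 3, 4]) = true :=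
  by decide +kernel

theorem st5 : fixC Cfsg.Agent.Spor.FiC.M22.act [362, 34, 473, 1, 0] (substU Cfsg.Agent.Spor.FiC.P22.inv.length [4, 5, 7, 3, 2, 1, 8, 6] [3, 7, 3, 7, 3, 7]) = true :=
  by decide +kernel

theorem st6 : fixC Cfsg.Agent.Spor.FiC.M22.act [362, 34, 473, 1, 0] (substU Cfsg.Agent.Spor.FiC.P22.inv.length [4, 5, 7, 3, 2, 1, 8, 6] [4, 5, 4, 5, 4, 5]) = true :=
  by decide +kernel

theorem st7 : fixC Cfsg.Agent.Spor.FiC.M22.act [362, 34, 473, 1, 0] (substU Cfsg.Agent.Spor.FiC.P22.inv.length [4, 5, 7, 3, 2, 1, 8, 6] [5, 6, 5, 6, 5, 6]) = true :=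
  by decide +kernel

theorem st8 : fixC Cfsg.Agent.Spor.FiC.M22.act [362, 34, 473, 1, 0] (substU Cfsg.Agent.Spor.FiC.P22.inv.length [4, 5, 7, 3, 2, 1, 8, 6] [7, 8, 7, 8, 7, 8]) = true :=
  by decide +kernel

theorem simple : IsSimpleGroup Cfsg.Spor.Fi22 :=
  model.simple Cfsg.Agent.Spor.FiC.M22.spec card orb0 prim cover (by decide +kernel) (u := [4, 5, 7, 3, 2, 1, 8, 6]) (m := 13) (by norm_num) (by decide +kernel)
    (steps := [(1, [9, 1, 9, 1, 9, 1, 9, 1, 9, 1, 9, 1, 9, 1, 9, 1, 9, 1]), (0, [0, 1, 0, 1, 0, 1]), (2, [1, 2, 1, 2, 1, 2]), (3, [2, 3, 2, 3, 2, 3]), (4, [3, 4, 3, 4, 3, 4]), (7, [3, 7, 3, 7, 3, 7]), (5, [4, 5, 4, 5, 4, 5]), (6, [5, 6, 5, 6, 5, 6]), (8, [7, 8, 7, 8, 7, 8])])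
    ⟨st0, st1, st2, st3, st4, st5, st6, st7, st8, trivial⟩ (by decide +kernel)

theorem subeq : (Subgroup.closure ({Cfsg.Spor.Fi22.a, Cfsg.Spor.Fi22.c, Cfsg.Spor.Fi22.d, Cfsg.Spor.Fi22.e, Cfsg.Spor.Fi22.f, Cfsg.Spor.Fi22.g, Cfsg.Spor.Fi22.h, Cfsg.Spor.Fi22.i, (Cfsg.Spor.Fi22.a * Cfsg.Spor.Fi22.b * Cfsg.Spor.Fi22.c * Cfsg.Spor.Fi22.d * Cfsg.Spor.Fi22.e * Cfsg.Spor.Fi22.h) ^ 5} : Set (FreeGroup Cfsg.Spor.Fi22.Gen))).map
    (PresentedGroup.mk (Cfsg.Spor.coxRelators Cfsg.Spor.Fi22.edges ∪ {r | r ∈ Cfsg.Spor.Fi22.extra})) = gen (subT Cfsg.Agent.Spor.FiC.L22.x ws) :=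
  map_closure_eq Cfsg.Agent.Spor.FiC.L22.link.2 [Cfsg.Spor.Fi22.a, Cfsg.Spor.Fi22.c, Cfsg.Spor.Fi22.d, Cfsg.Spor.Fi22.e, Cfsg.Spor.Fi22.f, Cfsg.Spor.Fi22.g, Cfsg.Spor.Fi22.h, Cfsg.Spor.Fi22.i, (Cfsg.Spor.Fi22.a * Cfsg.Spor.Fi22.b * Cfsg.Spor.Fi22.c * Cfsg.Spor.Fi22.d * Cfsg.Spor.Fi22.e * Cfsg.Spor.Fi22.h) ^ 5] ws (by decide +kernel) _ (fun w => by simp only [Set.mem_insert_iff, Set.mem_singleton_iff, List.mem_cons, List.not_mem_nil, or_false])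

def ws7 : List (List ℕ) := [[1], [2], [3], [4], [5], [6], [7], [8]]

theorem ch7_c0 : levelC (subAct Cfsg.Agent.Spor.FiC.M22.act ws7) 12 [] 0 [[0], [1], [2], [3], [4], [5], [6], [7]] 6 3159 = true :=
  by decide +kernel

theorem ch7_l0 : LevelOK (subT Cfsg.Agent.Spor.FiC.M22.π ws7) [] 0 3159 :=
  level_of_check (Cfsg.Agent.Spor.FiC.M22.spec.sub ws7) ch7_c0

theorem ch7_c1 : levelC (subAct Cfsg.Agent.Spor.FiC.M22.act ws7) 12 [0] 1 [[1], [2], [3], [4], [5], [6], [7]] 5 288 = true :=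
  by decide +kernel

theorem ch7_l1 : LevelOK (subT Cfsg.Agent.Spor.FiC.M22.π ws7) [0] 1 288 :=
  level_of_check (Cfsg.Agent.Spor.FiC.M22.spec.sub ws7) ch7_c1

theorem ch7_c2 : levelC (subAct Cfsg.Agent.Spor.FiC.M22.act ws7) 12 [1, 0] 1703 [[2], [3], [4], [5], [6], [7]] 4 210 = true :=
  by decide +kernel

theorem ch7_l2 : LevelOK (subT Cfsg.Agent.Spor.FiC.M22.π ws7) [1, 0] 1703 210 :=
  level_of_check (Cfsg.Agent.Spor.FiC.M22.spec.sub ws7) ch7_c2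

theorem ch7_c3 : levelC (subAct Cfsg.Agent.Spor.FiC.M22.act ws7) 12 [1703, 1, 0] 356 [[2], [3], [5], [7]] 2 24 = true :=
  by decide +kernel

theorem ch7_l3 : LevelOK (subT Cfsg.Agent.Spor.FiC.M22.π ws7) [1703, 1, 0] 356 24 :=
  level_of_check (Cfsg.Agent.Spor.FiC.M22.spec.sub ws7) ch7_c3

theorem ch7 : ChainOK (subT Cfsg.Agent.Spor.FiC.M22.π ws7) [] [(0, 3159), (1, 288), (1703, 210), (356, 24)] :=
  ⟨ch7_l0, ch7_l1, ch7_l2, ch7_l3, trivial⟩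

theorem card7 : Nat.card (gen (subT Cfsg.Agent.Spor.FiC.L22.x ws7)) = 4585351680 :=
  model.card_sub Cfsg.Agent.Spor.FiC.bQ (Cfsg.Agent.Spor.FiC.i22Q _ _ model.sat) ch7 (by decide)

theorem subeq7 : (Subgroup.closure ({Cfsg.Spor.Fi22.b, Cfsg.Spor.Fi22.c, Cfsg.Spor.Fi22.d, Cfsg.Spor.Fi22.e, Cfsg.Spor.Fi22.f, Cfsg.Spor.Fi22.g, Cfsg.Spor.Fi22.h, Cfsg.Spor.Fi22.i} : Set (FreeGroup Cfsg.Spor.Fi22.Gen))).map
    (PresentedGroup.mk (Cfsg.Spor.coxRelators Cfsg.Spor.Fi22.edges ∪ {r | r ∈ Cfsg.Spor.Fi22.extra})) = gen (subT Cfsg.Agent.Spor.FiC.L22.x ws7) :=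
  map_closure_eq Cfsg.Agent.Spor.FiC.L22.link.2 [Cfsg.Spor.Fi22.b, Cfsg.Spor.Fi22.c, Cfsg.Spor.Fi22.d, Cfsg.Spor.Fi22.e, Cfsg.Spor.Fi22.f, Cfsg.Spor.Fi22.g, Cfsg.Spor.Fi22.h, Cfsg.Spor.Fi22.i] ws7 (by decide +kernel) _ (fun w => by simp only [Set.mem_insert_iff, Set.mem_singleton_iff, List.mem_cons, List.not_mem_nil, or_false])

end Cfsg.Agent.Spor.FiC.M22
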