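import Cfsg.Agent.Spor.Fi.B22

set_option autoImplicit false
set_option Elab.async false
set_option maxRecDepth 100000

namespace Cfsg.Agent.Spor.FiC

open Cfsg.Agent.Comp.BN

def P23 : Pres := ⟨[0, 1, 2, 3, 4, 5, 6, 7, 8, 9],
  [[0, 1, 0, 1, 0, 1],
   [0, 2, 0, 2],
   [0, 3, 0, 3],
   [0, 4, 0, 4],
   [0, 5, 0, 5],
   [0, 6, 0, 6],
   [0, 8, 0, 8],
   [0, 9, 0, 9],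
   [0, 7, 0, 7],
   [1, 2, 1, 2, 1, 2],
   [1, 3, 1, 3],
   [1, 4, 1, 4],
   [1, 5, 1, 5],
   [1, 6, 1, 6],
   [1, 8, 1, 8],
   [1, 9, 1, 9],
   [1, 7, 1, 7],
   [2, 3, 2, 3, 2, 3],
   [2, 4, 2, 4],
   [2, 5, 2, 5],
   [2, 6, 2, 6],
   [2, 8, 2, 8],
   [2, 9, 2, 9],
   [2, 7, 2, 7],
   [3, 4, 3, 4, 3, 4],
   [3, 5, 3, 5],
   [3, 6, 3, 6],
   [3, 8, 3, 8, 3, 8],
   [3, 9, 3, 9],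
   [3, 7, 3, 7],
   [4, 5, 4, 5, 4, 5],
   [4, 6, 4, 6],
   [4, 8, 4, 8],
   [4, 9, 4, 9],
   [4, 7, 4, 7],
   [5, 6, 5, 6, 5, 6],
   [5, 8, 5, 8],
   [5, 9, 5, 9],
   [5, 7, 5, 7],
   [6, 8, 6, 8],
   [6, 9, 6, 9],
   [6, 7, 6, 7, 6, 7],
   [8, 9, 8, 9, 8, 9],
   [8, 7, 8, 7],
   [9, 7, 9, 7],
   [3, 2, 1, 3, 4, 5, 3, 8, 9, 3, 2, 1, 3, 4, 5, 3, 8, 9, 3, 2, 1, 3, 4, 5, 3, 8, 9, 3, 2, 1, 3, 4, 5, 3, 8, 9, 3, 2, 1, 3, 4, 5, 3, 8, 9, 3, 2, 1, 3, 4, 5, 3, 8, 9, 3, 2, 1, 3, 4, 5, 3, 8, 9, 3, 2, 1, 3, 4, 5, 3, 8, 9, 3, 2, 1, 3, 4, 5, 3, 8, 9, 3, 2, 1, 3, 4, 5, 3, 8, 9],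
   [0, 1, 2, 3, 4, 5, 8, 0, 1, 2, 3, 4, 5, 8, 0, 1, 2, 3, 4, 5, 8, 0, 1, 2, 3, 4, 5, 8, 0, 1, 2, 3, 4, 5, 8, 0, 1, 2, 3, 4, 5, 8, 0, 1, 2, 3, 4, 5, 8, 0, 1, 2, 3, 4, 5, 8, 0, 1, 2, 3, 4, 5, 8]]⟩

theorem i23 : Impl Cfsg.Agent.Spor.FiC.P23 Cfsg.Agent.Spor.FiC.P0 [[0], [1], [2], [3], [4], [5], [6], [8], [9]] :=
  impl_of_subC (P := Cfsg.Agent.Spor.FiC.P23) (c1 := [(141, 0), (141, 0), (141, 0), (141, 0), (141, 0), (141, 0), (141, 0), (141, 0), (141, 0)]) (c2 := [(0, 0), (3, 0), (6, 0), (9, 0), (12, 0), (15, 0), (18, 0), (21, 0), (27, 0), (30, 0), (33, 0), (36, 0), (39, 0), (42, 0), (45, 0), (51, 0), (54, 0), (57, 0), (60, 0), (63, 0), (66, 0), (72, 0), (75, 0), (78, 0), (81, 0), (84, 0), (90, 0), (93, 0), (96, 0), (99, 0), (105,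 0), (108, 0), (111, 0), (117, 0), (120, 0), (126, 0), (135, 0), (138, 0)]) (by decide +kernel)

theorem lem23 : Conseq P23 [0, 1, 2, 3, 4, 8, 9, 0, 1, 2, 3, 4, 8, 9, 0, 1, 2, 3, 4, 8, 9, 0, 1, 2, 3, 4, 8, 9, 0, 1, 2, 3, 4, 8, 9, 0, 1, 2, 3, 4, 8, 9, 0, 1, 2, 3, 4, 8, 9, 0, 1, 2, 3, 4, 8, 9, 0, 1, 2, 3, 4, 8, 9] :=
  i23.conseq lem0 (by decide +kernel)

def PL23 : Pres := Cfsg.Agent.Spor.FiC.P23.add [[0, 1, 2, 3, 4, 8, 9, 0, 1, 2, 3, 4, 8, 9, 0, 1, 2, 3, 4, 8, 9, 0, 1, 2, 3, 4, 8, 9, 0, 1, 2, 3, 4, 8, 9, 0, 1, 2, 3, 4, 8, 9, 0, 1, 2, 3, 4, 8, 9, 0, 1, 2, 3, 4, 8, 9, 0, 1, 2, 3, 4, 8, 9]]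

end Cfsg.Agent.Spor.FiC
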