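import Cfsg.Agent.Spor.Fi.Mid24
import Cfsg.Prelude.Def_Spor_Fi24

set_option autoImplicit false
set_option Elab.async false
set_option maxRecDepth 100000

namespace Cfsg.Agent.Spor.FiC.L24

open Cfsg.Agent.Comp.BN

def enc : Cfsg.Spor.Fi24.Gen → ℕ
  | .l => 0
  | .k => 1
  | .a => 2
  | .b => 3
  | .c => 4
  | .d => 5
  | .e => 6
  | .f => 7
  | .g => 8
  | .j => 9
  | .h => 10
  | .i => 11

def lt : List (FreeGroup Cfsg.Spor.Fi24.Gen) := [Cfsg.Spor.Fi24.l, Cfsg.Spor.Fi24.k, Cfsg.Spor.Fi24.a, Cfsg.Spor.Fi24.b, Cfsg.Spor.Fi24.c, Cfsg.Spor.Fi24.d, Cfsg.Spor.Fi24.e, Cfsg.Spor.Fi24.f, Cfsg.Spor.Fi24.g, Cfsg.Spor.Fi24.j, Cfsg.Spor.Fi24.h, Cfsg.Spor.Fi24.i]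

noncomputable def x : ℕ → Cfsg.Spor.Fi24 := coxT Cfsg.Spor.Fi24.edges Cfsg.Spor.Fi24.extra lt

theorem hk : ∀ k < Cfsg.Agent.Spor.FiC.P24.inv.length, ∃ q, k = enc q ∨ k = Cfsg.Agent.Spor.FiC.P24.I (enc q) := by
  intro k hk
  change k < 12 at hk
  interval_cases k
  · exact ⟨.l, Or.inl rfl⟩
  · exact ⟨.k, Or.inl rfl⟩
  · exact ⟨.a, Or.inl rfl⟩
  · exact ⟨.b, Or.inl rfl⟩
  · exact ⟨.c, Or.inl rfl⟩
  · exact ⟨.d, Or.inl rfl⟩
  · exact ⟨.e, Or.inl rfl⟩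
  · exact ⟨.f, Or.inl rfl⟩
  · exact ⟨.g, Or.inl rfl⟩
  · exact ⟨.j, Or.inl rfl⟩
  · exact ⟨.h, Or.inl rfl⟩
  · exact ⟨.i, Or.inl rfl⟩

theorem link : Link Cfsg.Agent.Spor.FiC.P24 x ∧ ∀ w, PresentedGroup.mk _ w = ev x (encW Cfsg.Agent.Spor.FiC.P24 enc w) :=
  link_cox enc [.l, .k, .a, .b, .c, .d, .e, .f, .g, .j, .h, .i] lt (fun q => by cases q <;> decide) (by decide) (fun q => by cases q <;> rfl)
    ⟨mk_sq (c := Cfsg.Spor.Fi24.Gen.l) (by decide), mk_sq (c := Cfsg.Spor.Fi24.Gen.k) (by decide), mk_sq (c := Cfsg.Spor.Fi24.Gen.a) (by decide), mk_sq (c := Cfsg.Spor.Fi24.Gen.b) (by decide), mk_sq (c := Cfsg.Spor.Fi24.Gen.c) (by decide), mk_sq (c := Cfsg.Spor.Fi24.Gen.d) (by decide), mk_sq (c := Cfsg.Spor.Fi24.Gen.e) (by decide), mk_sq (c := Cfsg.Spor.Fi24.Gen.f) (by decide), mk_sq (c := Cfsg.Spor.Fi24.Gen.g) (by decide), mk_sq (c := Cfsg.Spor.Fi24.Gen.j) (by decide), mk_sq (c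 := Cfsg.Spor.Fi24.Gen.h) (by decide), mk_sq (c := Cfsg.Spor.Fi24.Gen.i) (by decide), trivial⟩ hk
    (c1 := [(204, 0), (195, 1), (30, 1), (60, 1), (87, 1), (111, 1), (132, 1), (150, 1), (165, 1), (192, 1), (177, 1), (186, 1), (195, 0), (204, 0), (27, 1), (57, 1), (84, 1), (108, 1), (129, 1), (147, 1), (162, 1), (189, 1), (174, 1), (183, 1), (30, 0), (27, 0), (204, 0), (0, 0), (3, 0), (6, 0), (9, 0), (12, 0), (15, 0), (24, 0), (18, 0), (21, 0), (60, 0), (57, 0), (0, 1), (204, 0), (33, 0), (36, 0), (39, 0), (42, 0), (45, 0), (54, 0), (48, 0), (51, 0), (87, 0), (84, 0), (3, 1), (33, 1), (204, 0), (63, 0), (66, 0), (69, 0), (72, 0), (81, 0), (75, 0), (78, 0), (111, 0), (108, 0), (6, 1), (36, 1), (63, 1), (204, 0), (90, 0), (93, 0), (96, 0), (105, 0), (99, 0), (102, 0), (132, 0), (129, 0), (9, 1), (39, 1), (66, 1), (90, 1), (204, 0), (114, 0), (117, 0), (126, 0), (120, 0), (123,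 0), (150, 0), (147, 0), (12, 1), (42, 1), (69, 1), (93, 1), (114, 1), (204, 0), (135, 0), (144, 0), (138, 0), (141, 0), (165, 0), (162, 0), (15, 1), (45, 1), (72, 1), (96, 1), (117, 1), (135, 1), (204, 0), (159, 0), (153, 0), (156, 0), (192, 0), (189, 0), (24, 1), (54, 1), (81, 1), (105, 1), (126, 1), (144, 1), (159, 1), (204, 0), (171, 1), (180, 1), (177, 0), (174, 0), (18, 1), (48, 1), (75, 1), (99, 1), (120, 1), (138, 1), (153, 1), (171, 0), (204, 0), (168, 0), (186, 0), (183, 0), (21, 1), (51, 1), (78, 1), (102, 1), (123, 1), (141, 1), (156, 1), (180, 0), (168, 1), (204, 0), (198, 0), (201, 0)])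
    (c2 := [(81, 0), (84, 0), (87, 0), (90, 0), (93, 0), (96, 0), (102, 0), (105, 0), (99, 0), (42, 1), (6, 1), (120, 0), (123, 0), (126, 0), (129, 0), (132, 0), (138, 0), (141, 0), (135, 0), (45, 1), (9, 1), (159, 0), (162, 0), (165, 0), (168, 0), (174, 0), (177, 0), (171, 0), (48, 1), (12, 1), (198, 0), (201, 0), (204, 0), (210, 0), (213, 0), (207, 0), (51, 1), (15, 1), (237, 0), (240, 0), (246, 0), (249, 0), (243, 0), (54, 1), (18, 1), (276, 0), (282, 0), (285, 0), (279, 0), (57, 1), (21, 1), (318, 0), (321, 0), (315, 0), (60, 1), (24, 1), (393, 0), (354, 1), (66, 1), (30, 1), (357, 1), (69, 1), (33, 1), (63, 1), (27, 1), (3, 1), (432, 0), (435, 0)])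
    (by decide +kernel) (by decide +kernel)

end Cfsg.Agent.Spor.FiC.L24
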