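import Cfsg.Agent.Spor.Fi.Low
import Cfsg.Agent.Comp.BitMore3

set_option autoImplicit false
set_option Elab.async false
set_option maxRecDepth 100000

namespace Cfsg.Agent.Spor.FiC

open Cfsg.Agent.Comp.BN

def E7l : Pres := ⟨[0, 1, 2, 3, 4, 5, 6, 7],
  [[1, 2, 1, 2, 1, 2],
   [1, 3, 1, 3],
   [1, 4, 1, 4],
   [1, 5, 1, 5],
   [1, 6, 1, 6],
   [1, 7, 1, 7],
   [1, 0, 1, 0],
   [2, 3, 2, 3, 2, 3],
   [2, 4, 2, 4],
   [2, 5, 2, 5],
   [2, 6, 2, 6],
   [2, 7, 2, 7],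
   [2, 0, 2, 0],
   [3, 4, 3, 4, 3, 4],
   [3, 5, 3, 5],
   [3, 6, 3, 6],
   [3, 7, 3, 7],
   [3, 0, 3, 0],
   [4, 5, 4, 5, 4, 5],
   [4, 6, 4, 6],
   [4, 7, 4, 7, 4, 7],
   [4, 0, 4, 0],
   [5, 6, 5, 6, 5, 6],
   [5, 7, 5, 7],
   [5, 0, 5, 0],
   [6, 7, 6, 7],
   [6, 0, 6, 0],
   [7, 0, 7, 0],
   [0, 7, 6, 5, 4, 3, 2, 1, 7, 6, 5, 4, 3, 2, 1, 7, 6, 5, 4, 3, 2, 1, 7, 6, 5, 4, 3, 2, 1, 7, 6, 5, 4, 3, 2, 1, 7, 6, 5, 4, 3, 2, 1, 7, 6, 5, 4, 3, 2, 1, 7, 6, 5, 4, 3, 2, 1, 7, 6, 5, 4, 3, 2, 1]]⟩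

namespace C1
noncomputable def m0_0 : ℕ := nat_lit 0x60000000fc00

noncomputable def m0_1 : ℕ := nat_lit 0x6c006400c30000

noncomputable def m0_2 : ℕ := nat_lit 0x40206060f0f0400

noncomputable def m0_3 : ℕ := nat_lit 0x2030330233333000

noncomputable def m0_4 : ℕ := nat_lit 0x4451555100005555

noncomputable def m0_5 : ℕ := nat_lit 0x2000000200000000

noncomputable def m0_6 : ℕ := nat_lit 0x402000600000400

noncomputable def m0_7 : ℕ := nat_lit 0x6c006400000000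

noncomputable def m0_8 : ℕ := nat_lit 0x60000000fc00

noncomputable def net0 : Net := (.cons 16 m0_0 (.cons 8 m0_1 (.cons 4 m0_2 (.cons 2 m0_3 (.cons 1 m0_4 (.cons 2 m0_5 (.cons 4 m0_6 (.cons 8 m0_7 (.cons 16 m0_8 .nil)))))))))

theorem ok0 : Net.ok 64 net0 = true :=
  by decide +kernel

noncomputable def m1_0 : ℕ := nat_lit 0x90000000

noncomputable def m1_1 : ℕ := nat_lit 0xb68800000000

noncomputable def m1_2 : ℕ := nat_lit 0x8c003000000000

noncomputable def m1_3 : ℕ := nat_lit 0x40a000d00000000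

noncomputable def m1_4 : ℕ := nat_lit 0x3210201100000003

noncomputable def m1_5 : ℕ := nat_lit 0x5005000000000000

noncomputable def m1_6 : ℕ := nat_lit 0x40a000000000000

noncomputable def m1_7 : ℕ := nat_lit 0x8c003000000000

noncomputable def m1_8 : ℕ := nat_lit 0xb68800000000

noncomputable def m1_9 : ℕ := nat_lit 0x90000000

noncomputable def net1 : Net := (.cons 32 m1_0 (.cons 16 m1_1 (.cons 8 m1_2 (.cons 4 m1_3 (.cons 2 m1_4 (.cons 1 m1_5 (.cons 4 m1_6 (.cons 8 m1_7 (.cons 16 m1_8 (.cons 32 m1_9 .nil))))))))))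

theorem ok1 : Net.ok 64 net1 = true :=
  by decide +kernel

noncomputable def m2_0 : ℕ := nat_lit 0x24000000

noncomputable def m2_1 : ℕ := nat_lit 0x2d1000000000

noncomputable def m2_2 : ℕ := nat_lit 0x18006400100000

noncomputable def m2_3 : ℕ := nat_lit 0x602000a0800000c

noncomputable def m2_4 : ℕ := nat_lit 0x1022003302200030

noncomputable def m2_5 : ℕ := nat_lit 0x101000000100000

noncomputable def m2_6 : ℕ := nat_lit 0x2000000200000

noncomputable def m2_7 : ℕ := nat_lit 0x60200000800000c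

noncomputable def m2_8 : ℕ := nat_lit 0x18006400100000

noncomputable def m2_9 : ℕ := nat_lit 0x2d1000000000

noncomputable def m2_10 : ℕ := nat_lit 0x24000000

noncomputable def net2 : Net := (.cons 32 m2_0 (.cons 16 m2_1 (.cons 8 m2_2 (.cons 4 m2_3 (.cons 2 m2_4 (.cons 1 m2_5 (.cons 2 m2_6 (.cons 4 m2_7 (.cons 8 m2_8 (.cons 16 m2_9 (.cons 32 m2_10 .nil)))))))))))

theorem ok2 : Net.ok 64 net2 = true :=
  by decide +kernel

noncomputable def m3_0 : ℕ := nat_lit 0x48000000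

noncomputable def m3_1 : ℕ := nat_lit 0x680000000000

noncomputable def m3_2 : ℕ := nat_lit 0x30004800420000

noncomputable def m3_3 : ℕ := nat_lit 0x60000060a0000

noncomputable def m3_4 : ℕ := nat_lit 0x3001200000030

noncomputable def m3_5 : ℕ := nat_lit 0x1040000001000000

noncomputable def m3_6 : ℕ := nat_lit 0x6000002000000

noncomputable def m3_7 : ℕ := nat_lit 0x30004800420000

noncomputable def m3_8 : ℕ := nat_lit 0x680000000000

noncomputable def m3_9 : ℕ := nat_lit 0x48000000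

noncomputable def net3 : Net := (.cons 32 m3_0 (.cons 16 m3_1 (.cons 8 m3_2 (.cons 4 m3_3 (.cons 2 m3_4 (.cons 1 m3_5 (.cons 4 m3_6 (.cons 8 m3_7 (.cons 16 m3_8 (.cons 32 m3_9 .nil))))))))))

theorem ok3 : Net.ok 64 net3 = true :=
  by decide +kernel

noncomputable def m4_0 : ℕ := nat_lit 0x940000008000

noncomputable def m4_1 : ℕ := nat_lit 0x840092009000c0

noncomputable def m4_2 : ℕ := nat_lit 0x4000900010e0c00

noncomputable def m4_3 : ℕ := nat_lit 0x1021200000000300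

noncomputable def m4_4 : ℕ := nat_lit 0x110000000000

noncomputable def m4_5 : ℕ := nat_lit 0x20000000000

noncomputable def m4_6 : ℕ := nat_lit 0x400020000000c00

noncomputable def m4_7 : ℕ := nat_lit 0x840092009000c0

noncomputable def m4_8 : ℕ := nat_lit 0x940000008000

noncomputable def net4 : Net := (.cons 16 m4_0 (.cons 8 m4_1 (.cons 4 m4_2 (.cons 2 m4_3 (.cons 1 m4_4 (.cons 2 m4_5 (.cons 4 m4_6 (.cons 8 m4_7 (.cons 16 m4_8 .nil)))))))))

theorem ok4 : Net.ok 64 net4 = true :=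
  by decide +kernel

noncomputable def m5_0 : ℕ := nat_lit 0x24000000

noncomputable def m5_1 : ℕ := nat_lit 0x240800002000

noncomputable def m5_2 : ℕ := nat_lit 0x8006400280000

noncomputable def m5_3 : ℕ := nat_lit 0x808040a0a00

noncomputable def m5_4 : ℕ := nat_lit 0x120301000100

noncomputable def m5_5 : ℕ := nat_lit 0x400001500401000

noncomputable def m5_6 : ℕ := nat_lit 0x80804080200

noncomputable def m5_7 : ℕ := nat_lit 0x8006400280000

noncomputable def m5_8 : ℕ := nat_lit 0x240800002000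

noncomputable def m5_9 : ℕ := nat_lit 0x24000000

noncomputable def net5 : Net := (.cons 32 m5_0 (.cons 16 m5_1 (.cons 8 m5_2 (.cons 4 m5_3 (.cons 2 m5_4 (.cons 1 m5_5 (.cons 4 m5_6 (.cons 8 m5_7 (.cons 16 m5_8 (.cons 32 m5_9 .nil))))))))))

theorem ok5 : Net.ok 64 net5 = true :=
  by decide +kernel

noncomputable def m6_0 : ℕ := nat_lit 0x90000000

noncomputable def m6_1 : ℕ := nat_lit 0x900000009000

noncomputable def m6_2 : ℕ := nat_lit 0xb000b50000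

noncomputable def m6_3 : ℕ := nat_lit 0x20d0b0f0400

noncomputable def m6_4 : ℕ := nat_lit 0x5540000

noncomputable def m6_5 : ℕ := nat_lit 0x8000000

noncomputable def m6_6 : ℕ := nat_lit 0xb000020000

noncomputable def m6_7 : ℕ := nat_lit 0x900000009000

noncomputable def m6_8 : ℕ := nat_lit 0x90000000

noncomputable def net6 : Net := (.cons 32 m6_0 (.cons 16 m6_1 (.cons 8 m6_2 (.cons 4 m6_3 (.cons 1 m6_4 (.cons 4 m6_5 (.cons 8 m6_6 (.cons 16 m6_7 (.cons 32 m6_8 .nil)))))))))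

theorem ok6 : Net.ok 64 net6 = true :=
  by decide +kernel

noncomputable def m7_0 : ℕ := nat_lit 0x280000005000

noncomputable def m7_1 : ℕ := nat_lit 0x28000000420000

noncomputable def m7_2 : ℕ := nat_lit 0x80d040002050600

noncomputable def m7_3 : ℕ := nat_lit 0x2002010000000200

noncomputable def m7_4 : ℕ := nat_lit 0x11000010004100

noncomputable def m7_5 : ℕ := nat_lit 0x20000000000200

noncomputable def m7_6 : ℕ := nat_lit 0x802040002000400

noncomputable def m7_7 : ℕ := nat_lit 0x28000000420000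

noncomputable def m7_8 : ℕ := nat_lit 0x280000005000

noncomputable def net7 : Net := (.cons 16 m7_0 (.cons 8 m7_1 (.cons 4 m7_2 (.cons 2 m7_3 (.cons 1 m7_4 (.cons 2 m7_5 (.cons 4 m7_6 (.cons 8 m7_7 (.cons 16 m7_8 .nil)))))))))

theorem ok7 : Net.ok 64 net7 = true :=
  by decide +kernel

noncomputable def nets : List Net := [net0, net1, net2, net3, net4, net5, net6, net7]

noncomputable def act : Act := netAct' nets
noncomputable def π : ℕ → Equiv.Perm ℕ := netPerm nets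

theorem spec : act.Spec 64 π :=
  spec_fast (netAct_spec (AllP.forall (p := fun t => Net.ok 64 t = true) ⟨ok0, ok1, ok2, ok3, ok4, ok5, ok6, ok7, trivial⟩))

theorem out : ∀ k, 8 ≤ k → π k = 1 :=
  netPerm_out nets

theorem sat_inv_0 : invC Cfsg.Agent.Spor.FiC.C1.act Cfsg.Agent.Spor.FiC.E7l.I 64 6 Cfsg.Agent.Spor.FiC.E7l.inv.length [0, 1, 2, 3, 4, 5] = true :=
  by decide +kernel

theorem sat_inv : ∀ k, Cfsg.Agent.Spor.FiC.C1.π (Cfsg.Agent.Spor.FiC.E7l.I k) * Cfsg.Agent.Spor.FiC.C1.π k = 1 :=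
  inv_of_checks Cfsg.Agent.Spor.FiC.C1.spec (K := 6) (by decide) Cfsg.Agent.Spor.FiC.C1.out [[0, 1, 2, 3, 4, 5]] (by decide) ⟨sat_inv_0, trivial⟩

theorem sat_rel_0_0 : relsC Cfsg.Agent.Spor.FiC.C1.act Cfsg.Agent.Spor.FiC.E7l.I 64 6 [[1, 2, 1, 2, 1, 2], [1, 3, 1, 3], [1, 4, 1, 4], [1, 5, 1, 5], [1, 6, 1, 6], [1, 7, 1, 7], [1, 0, 1, 0], [2, 3, 2, 3, 2, 3], [2, 4, 2, 4], [2, 5, 2, 5], [2, 6, 2, 6], [2, 7, 2, 7], [2, 0, 2, 0], [3, 4, 3, 4, 3, 4], [3, 5, 3, 5], [3, 6, 3, 6], [3, 7, 3, 7], [3, 0, 3, 0], [4, 5, 4, 5, 4, 5], [4, 6, 4, 6], [4, 7, 4, 7, 4, 7], [4, 0, 4, 0], [5, 6, 5, 6, 5, 6], [5, 7, 5, 7], [5, 0, 5, 0], [6, 7, 6, 7], [6, 0, 6, 0], [7, 0, 7, 0], [0, 7, 6, 5, 4, 3, 2, 1, 7, 6, 5, 4, 3, 2, 1, 7, 6, 5, 4, 3, 2, 1, 7, 6, 5, 4, 3, 2, 1, 7, 6, 5, 4, 3, 2, 1, 7, 6, 5, 4, 3, 2, 1, 7, 6, 5, 4, 3, 2, 1, 7, 6, 5, 4, 3, 2, 1, 7, 6, 5, 4, 3, 2, 1]] [0, 1, 2, 3, 4, 5] = true :=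
  by decide +kernel

theorem sat_rel_0 : ∀ r ∈ ([[1, 2, 1, 2, 1, 2], [1, 3, 1, 3], [1, 4, 1, 4], [1, 5, 1, 5], [1, 6, 1, 6], [1, 7, 1, 7], [1, 0, 1, 0], [2, 3, 2, 3, 2, 3], [2, 4, 2, 4], [2, 5, 2, 5], [2, 6, 2, 6], [2, 7, 2, 7], [2, 0, 2, 0], [3, 4, 3, 4, 3, 4], [3, 5, 3, 5], [3, 6, 3, 6], [3, 7, 3, 7], [3, 0, 3, 0], [4, 5, 4, 5, 4, 5], [4, 6, 4, 6], [4, 7, 4, 7, 4, 7], [4, 0, 4, 0], [5, 6, 5, 6, 5, 6], [5, 7, 5, 7], [5, 0, 5, 0], [6, 7, 6, 7], [6, 0, 6, 0], [7, 0, 7, 0], [0, 7, 6, 5, 4, 3, 2, 1, 7, 6, 5, 4, 3, 2, 1, 7, 6, 5, 4, 3, 2, 1, 7, 6, 5, 4, 3, 2, 1, 7, 6, 5, 4, 3, 2, 1, 7, 6, 5, 4, 3, 2, 1, 7, 6, 5, 4, 3, 2, 1, 7, 6, 5, 4, 3, 2, 1, 7, 6, 5, 4, 3, 2, 1]] : List (List ℕ)), ev Cfsg.Agent.Spor.FiC.C1.π r = 1 :=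
  rels_of_checks Cfsg.Agent.Spor.FiC.C1.spec (K := 6) (by decide) sat_inv _ [[0, 1, 2, 3, 4, 5]] (by decide) ⟨sat_rel_0_0, trivial⟩

theorem sat_rel : ∀ r ∈ ([[1, 2, 1, 2, 1, 2], [1, 3, 1, 3], [1, 4, 1, 4], [1, 5, 1, 5], [1, 6, 1, 6], [1, 7, 1, 7], [1, 0, 1, 0], [2, 3, 2, 3, 2, 3], [2, 4, 2, 4], [2, 5, 2, 5], [2, 6, 2, 6], [2, 7, 2, 7], [2, 0, 2, 0], [3, 4, 3, 4, 3, 4], [3, 5, 3, 5], [3, 6, 3, 6], [3, 7, 3, 7], [3, 0, 3, 0], [4, 5, 4, 5, 4, 5], [4, 6, 4, 6], [4, 7, 4, 7, 4, 7], [4, 0, 4, 0], [5, 6, 5, 6, 5, 6], [5, 7, 5, 7], [5, 0, 5, 0], [6, 7, 6, 7], [6, 0, 6, 0], [7, 0, 7, 0], [0, 7, 6, 5, 4, 3, 2, 1, 7, 6, 5, 4, 3, 2, 1, 7, 6, 5, 4, 3, 2, 1, 7, 6, 5, 4, 3, 2, 1, 7, 6, 5, 4, 3, 2, 1, 7, 6, 5, 4, 3, 2, 1, 7, 6, 5, 4, 3, 2, 1, 7, 6, 5, 4, 3, 2, 1, 7, 6, 5, 4, 3, 2, 1]] : List (List ℕ)), ev Cfsg.Agent.Spor.FiC.C1.π r = 1 :=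
  rels_join [[[1, 2, 1, 2, 1, 2], [1, 3, 1, 3], [1, 4, 1, 4], [1, 5, 1, 5], [1, 6, 1, 6], [1, 7, 1, 7], [1, 0, 1, 0], [2, 3, 2, 3, 2, 3], [2, 4, 2, 4], [2, 5, 2, 5], [2, 6, 2, 6], [2, 7, 2, 7], [2, 0, 2, 0], [3, 4, 3, 4, 3, 4], [3, 5, 3, 5], [3, 6, 3, 6], [3, 7, 3, 7], [3, 0, 3, 0], [4, 5, 4, 5, 4, 5], [4, 6, 4, 6], [4, 7, 4, 7, 4, 7], [4, 0, 4, 0], [5, 6, 5, 6, 5, 6], [5, 7, 5, 7], [5, 0, 5, 0], [6, 7, 6, 7], [6, 0, 6, 0], [7, 0, 7, 0], [0, 7, 6, 5, 4, 3, 2, 1, 7, 6, 5, 4, 3, 2, 1, 7, 6, 5, 4, 3, 2, 1, 7, 6, 5, 4, 3, 2, 1, 7, 6, 5, 4, 3, 2, 1, 7, 6, 5, 4, 3, 2, 1, 7, 6, 5, 4, 3, 2, 1, 7, 6, 5, 4, 3, 2, 1, 7, 6, 5, 4, 3, 2, 1]]] ⟨sat_rel_0, trivial⟩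

theorem sat : Sat Cfsg.Agent.Spor.FiC.E7l Cfsg.Agent.Spor.FiC.C1.π :=
  ⟨Cfsg.Agent.Spor.FiC.C1.out, sat_inv, sat_rel⟩

noncomputable def done_tr0 : ℕ := nat_lit 0x25290991694332

noncomputable def done_tr1 : ℕ := nat_lit 0x96ffd801543c

noncomputable def done_tr2 : ℕ := nat_lit 0x6dbd926fe957c0

noncomputable def done_tr3 : ℕ := nat_lit 0x9240000016a800

noncomputable def done_t0_0 : ℕ := nat_lit 0x3f03f03c3c331

noncomputable def done_t0_1 : ℕ := nat_lit 0xfc003ffc03fc3c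

noncomputable def done_t0_2 : ℕ := nat_lit 0xffffc00003ffc0

noncomputable def done_t0_3 : ℕ := nat_lit 0xfffffffffc0000

noncomputable def done_t1_0 : ℕ := nat_lit 0xbf21199f0f0e63

noncomputable def done_t1_1 : ℕ := nat_lit 0xfdb592600ff070

noncomputable def done_t1_2 : ℕ := nat_lit 0xda4800000fff80

noncomputable def done_t1_3 : ℕ := nat_lit 0xda49126ff00000

noncomputable def done_t2_0 : ℕ := nat_lit 0x613b042f8f0e4d

noncomputable def done_t2_1 : ℕ := nat_lit 0x493ff2400ff042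

noncomputable def done_t2_2 : ℕ := nat_lit 0xb6c000000fff80

noncomputable def done_t2_3 : ℕ := nat_lit 0x6c926449700000

noncomputable def done_t3_0 : ℕ := nat_lit 0x173705816f0e39

noncomputable def done_t3_1 : ℕ := nat_lit 0xa65efa4807f00e

noncomputable def done_t3_2 : ℕ := nat_lit 0xb480000007ff00

noncomputable def done_t3_3 : ℕ := nat_lit 0xb6dfed90100000

noncomputable def done_t4_0 : ℕ := nat_lit 0x1a9697e0978cd9

noncomputable def done_t4_1 : ℕ := nat_lit 0x1a42680081701e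

noncomputable def done_t4_2 : ℕ := nat_lit 0xc0000000817c20

noncomputable def done_t4_3 : ℕ := nat_lit 0xda426dfe000000

noncomputable def done_t5_0 : ℕ := nat_lit 0x1f034da5e50399

noncomputable def done_t5_1 : ℕ := nat_lit 0x1f682000afe81e

noncomputable def done_t5_2 : ℕ := nat_lit 0xe0000000ad40e0

noncomputable def done_t5_3 : ℕ := nat_lit 0xff692492100000

noncomputable def done_t6_0 : ℕ := nat_lit 0x1f819999683599

noncomputable def done_t6_1 : ℕ := nat_lit 0x1ffe64097eaa1e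

noncomputable def done_t6_2 : ℕ := nat_lit 0xe0026dbe802be0

noncomputable def done_t6_3 : ℕ := nat_lit 0xfffd9240000000

noncomputable def done_t7_0 : ℕ := nat_lit 0x4d3f07e0e15799

noncomputable def done_t7_1 : ℕ := nat_lit 0x6c16f800e8001e

noncomputable def done_t7_2 : ℕ := nat_lit 0x6c800000e800e0

noncomputable def done_t7_3 : ℕ := nat_lit 0x6c96ffff000000

noncomputable def doneC : TC := ⟨Cfsg.Agent.Spor.FiC.E7l, [[2], [3], [4], [5], [6], [7]], 56, 64, 6, 4, [done_tr0, done_tr1, done_tr2, done_tr3],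
  [[done_t0_0, done_t0_1, done_t0_2, done_t0_3],
   [done_t1_0, done_t1_1, done_t1_2, done_t1_3],
   [done_t2_0, done_t2_1, done_t2_2, done_t2_3],
   [done_t3_0, done_t3_1, done_t3_2, done_t3_3],
   [done_t4_0, done_t4_1, done_t4_2, done_t4_3],
   [done_t5_0, done_t5_1, done_t5_2, done_t5_3],
   [done_t6_0, done_t6_1, done_t6_2, done_t6_3],
   [done_t7_0, done_t7_1, done_t7_2, done_t7_3]]⟩

theorem done_s : doneC.structC Cfsg.Agent.Spor.FiC.C1.act = true :=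
  by decide +kernel

theorem done_c0_0 : doneC.coverC Cfsg.Agent.Spor.FiC.C1.act 0 true [(18, 1), (36, 1), (51, 1)] [(false, 2, 0, 1), (false, 63, 1, 7), (false, 63, 1, 6), (false, 63, 1, 17), (false, 63, 1, 15), (false, 63, 1, 20), (false, 63, 1, 18), (false, 63, 1, 36), (false, 63, 1, 33), (false, 72, 1, 9), (false, 72, 1, 8), (false, 72, 1, 13), (false, 72, 1, 11), (false, 72, 1, 24), (false, 72, 1, 22), (false, 78, 1, 12), (false, 78, 1, 10), (false, 78, 1, 17), (false, 78, 1, 15), (false, 81, 1, 9), (false, 81, 1, 8), (false, 81, 1, 43), (false, 81, 1, 40)] 0 (ones 56) = true :=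
  by decide +kernel

theorem done_j0 : doneC.JustS Cfsg.Agent.Spor.FiC.C1.π 0 (ones 56) :=
  TC.cover_step Cfsg.Agent.Spor.FiC.C1.spec done_s (TC.justS_zero 0) done_c0_0

theorem done_c1_0 : doneC.coverC Cfsg.Agent.Spor.FiC.C1.act 1 true [(3, 0), (6, 0), (9, 0)] [(false, 5, 0, 2), (false, 5, 0, 3), (false, 5, 0, 34), (false, 5, 0, 37), (false, 5, 0, 38), (false, 5, 0, 41), (false, 5, 0, 54), (false, 12, 0, 14), (false, 12, 0, 16), (false, 12, 0, 18), (false, 12, 0, 20), (false, 15, 0, 11), (false, 15, 0, 13), (false, 15, 0, 46), (false, 15, 0, 49), (false, 18, 0, 51), (false, 0, 0, 4), (false, 0, 0, 5)] 0 (ones 56) = true :=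
  by decide +kernel

theorem done_j1 : doneC.JustS Cfsg.Agent.Spor.FiC.C1.π 1 (ones 56) :=
  TC.cover_step Cfsg.Agent.Spor.FiC.C1.spec done_s (TC.justS_zero 1) done_c1_0

theorem done_c2_0 : doneC.coverC Cfsg.Agent.Spor.FiC.C1.act 2 true [(24, 0), (27, 0)] [(true, 0, 0, 0), (false, 8, 0, 4), (false, 8, 0, 5), (false, 8, 0, 28), (false, 8, 0, 31), (false, 8, 0, 32), (false, 8, 0, 35), (false, 30, 0, 14), (false, 30, 0, 16), (false, 30, 0, 18), (false, 30, 0, 20), (false, 30, 0, 38), (false, 30, 0, 41), (false, 33, 0, 11), (false, 33, 0, 13), (false, 33, 0, 52), (false, 33, 0, 55), (false, 33, 0, 46), (false, 33, 0, 49), (false, 36, 0, 1), (false, 0, 1, 28), (false, 0, 1, 31), (false, 21, 0, 6), (false, 21, 0, 7), (false, 21, 0, 51), (false, 21, 0, 54)] 0 (ones 56) = true :=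
  by decide +kernel

theorem done_j2 : doneC.JustS Cfsg.Agent.Spor.FiC.C1.π 2 (ones 56) :=
  TC.cover_step Cfsg.Agent.Spor.FiC.C1.spec done_s (TC.justS_zero 2) done_c2_0

theorem done_c3_0 : doneC.coverC Cfsg.Agent.Spor.FiC.C1.act 3 true [(11, 0), (42, 0)] [(true, 1, 0, 0), (false, 3, 1, 0), (false, 3, 1, 1), (false, 3, 1, 28), (false, 3, 1, 31), (false, 3, 1, 32), (false, 3, 1, 35), (false, 3, 1, 39), (false, 3, 1, 42), (false, 45, 0, 14), (false, 45, 0, 16), (false, 45, 0, 18), (false, 45, 0, 20), (false, 45, 0, 32), (false, 45, 0, 35), (false, 48, 0, 11), (false, 48, 0, 13), (false, 48, 0, 46), (false, 48, 0, 49), (false, 51, 0, 1), (false, 21, 1, 23), (false, 21, 1, 25), (false, 39, 0, 8), (false, 39, 0, 9), (false, 39, 0, 40), (false, 39, 0, 43), (false, 84, 5, 34), (false, 84, 5, 37)] 0 (ones 56) = true :=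
  by decide +kernel

theorem done_j3 : doneC.JustS Cfsg.Agent.Spor.FiC.C1.π 3 (ones 56) :=
  TC.cover_step Cfsg.Agent.Spor.FiC.C1.spec done_s (TC.justS_zero 3) done_c3_0

theorem done_c4_0 : doneC.coverC Cfsg.Agent.Spor.FiC.C1.act 4 true [(14, 0)] [(true, 2, 0, 0), (false, 6, 1, 0), (false, 6, 1, 1), (false, 6, 1, 28), (false, 6, 1, 31), (false, 6, 1, 32), (false, 6, 1, 35), (false, 24, 1, 2), (false, 24, 1, 3), (false, 24, 1, 23), (false, 24, 1, 25), (false, 24, 1, 26), (false, 24, 1, 29), (false, 24, 1, 46), (false, 24, 1, 49), (false, 57, 0, 14), (false, 57, 0, 16), (false, 57, 0, 26), (false, 57, 0, 29), (false, 63, 0, 1), (false, 39, 1, 19), (false, 39, 1, 21), (false, 39, 1, 45), (false, 39, 1, 48), (false, 54, 0, 10), (false, 54, 0, 12), (false, 54, 0, 27), (false, 54, 0, 30), (false, 60, 0, 11), (false, 60, 0, 13), (false, 60, 0, 46), (false, 60, 0, 49)] 0 (ones 56) = true :=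
  by decide +kernel

theorem done_j4 : doneC.JustS Cfsg.Agent.Spor.FiC.C1.π 4 (ones 56) :=
  TC.cover_step Cfsg.Agent.Spor.FiC.C1.spec done_s (TC.justS_zero 4) done_c4_0

theorem done_c5_0 : doneC.coverC Cfsg.Agent.Spor.FiC.C1.act 5 true [(17, 0)] [(true, 3, 0, 0), (false, 9, 1, 0), (false, 9, 1, 1), (false, 9, 1, 28), (false, 9, 1, 31), (false, 9, 1, 45), (false, 9, 1, 48), (false, 27, 1, 2), (false, 27, 1, 3), (false, 27, 1, 23), (false, 27, 1, 25), (false, 27, 1, 40), (false, 27, 1, 43), (false, 27, 1, 46), (false, 27, 1, 49), (false, 42, 1, 4), (false, 42, 1, 5), (false, 42, 1, 19), (false, 42, 1, 21), (false, 42, 1, 45), (false, 42, 1, 48), (false, 69, 0, 15), (false, 69, 0, 17), (false, 69, 0, 11), (false, 69, 0, 13), (false, 69, 0, 18), (false, 69, 0, 20), (false, 69, 0, 46), (false, 69, 0, 49), (false, 72, 0, 1), (false, 54, 1, 15), (false, 54, 1, 17), (false, 54, 1, 33), (false, 54, 1, 36),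 (false, 66, 0, 14), (false, 66, 0, 16)] 0 (ones 56) = true :=
  by decide +kernel

theorem done_j5 : doneC.JustS Cfsg.Agent.Spor.FiC.C1.π 5 (ones 56) :=
  TC.cover_step Cfsg.Agent.Spor.FiC.C1.spec done_s (TC.justS_zero 5) done_c5_0

theorem done_c6_0 : doneC.coverC Cfsg.Agent.Spor.FiC.C1.act 6 true [(12, 1), (30, 1), (45, 1)] [(true, 4, 0, 0), (false, 20, 0, 14), (false, 20, 0, 16), (false, 57, 1, 6), (false, 57, 1, 7), (false, 57, 1, 18), (false, 57, 1, 20), (false, 57, 1, 15), (false, 57, 1, 17), (false, 57, 1, 33), (false, 57, 1, 36), (false, 75, 0, 11), (false, 75, 0, 13), (false, 75, 0, 18), (false, 75, 0, 20), (false, 75, 0, 15), (false, 75, 0, 17), (false, 75, 0, 46), (false, 75, 0, 49), (false, 78, 0, 1), (false, 66, 1, 22), (false, 66, 1, 24)] 0 (ones 56) = true :=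
  by decide +kernel

theorem done_j6 : doneC.JustS Cfsg.Agent.Spor.FiC.C1.π 6 (ones 56) :=
  TC.cover_step Cfsg.Agent.Spor.FiC.C1.spec done_s (TC.justS_zero 6) done_c6_0

theorem done_c7_0 : doneC.coverC Cfsg.Agent.Spor.FiC.C1.act 7 true [(23, 0), (15, 1), (48, 1)] [(true, 5, 0, 0), (false, 33, 1, 2), (false, 33, 1, 3), (false, 33, 1, 23), (false, 33, 1, 25), (false, 33, 1, 26), (false, 33, 1, 29), (false, 33, 1, 33), (false, 33, 1, 36), (false, 69, 1, 22), (false, 69, 1, 24), (false, 75, 1, 19), (false, 75, 1, 21), (false, 81, 0, 1), (false, 81, 0, 50), (false, 60, 1, 15), (false, 60, 1, 17)] 0 (ones 56) = true :=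
  by decide +kernel

theorem done_j7 : doneC.JustS Cfsg.Agent.Spor.FiC.C1.π 7 (ones 56) :=
  TC.cover_step Cfsg.Agent.Spor.FiC.C1.spec done_s (TC.justS_zero 7) done_c7_0

theorem done : doneC.Done Cfsg.Agent.Spor.FiC.C1.π :=
  TC.done_of Cfsg.Agent.Spor.FiC.C1.spec sat done_s ⟨done_j0, done_j1, done_j2, done_j3, done_j4, done_j5, done_j6, done_j7, trivial⟩

end C1

theorem iC1 : Impl Cfsg.Agent.Spor.FiC.E7l Cfsg.Agent.Spor.FiC.E6 [[2], [3], [4], [5], [6], [7]] :=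
  impl_of_subC (P := Cfsg.Agent.Spor.FiC.E7l) (c1 := [(87, 0), (87, 0), (87, 0), (87, 0), (87, 0), (87, 0)]) (c2 := [(21, 0), (24, 0), (27, 0), (30, 0), (33, 0), (39, 0), (42, 0), (45, 0), (48, 0), (54, 0), (57, 0), (60, 0), (66, 0), (69, 0), (75, 0)]) (by decide +kernel)

theorem bE7l : Bound Cfsg.Agent.Spor.FiC.E7l 2903040 :=
  C1.done.bound' bE6 iC1 ⟨inSub_of_mem (by decide), inSub_of_mem (by decide), inSub_of_mem (by decide), inSub_of_mem (by decide), inSub_of_mem (by decide), inSub_of_mem (by decide), trivial⟩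

def E8l : Pres := ⟨[0, 1, 2, 3, 4, 5, 6, 7, 8],
  [[2, 3, 2, 3, 2, 3],
   [2, 4, 2, 4],
   [2, 5, 2, 5],
   [2, 6, 2, 6],
   [2, 7, 2, 7],
   [2, 8, 2, 8],
   [2, 1, 2, 1, 2, 1],
   [2, 0, 2, 0],
   [3, 4, 3, 4, 3, 4],
   [3, 5, 3, 5],
   [3, 6, 3, 6],
   [3, 7, 3, 7],
   [3, 8, 3, 8],
   [3, 1, 3, 1],
   [3, 0, 3, 0],
   [4, 5, 4, 5, 4, 5],
   [4, 6, 4, 6],
   [4, 7, 4, 7],
   [4, 8, 4, 8],
   [4, 1, 4, 1],
   [4, 0, 4, 0],
   [5, 6, 5, 6, 5, 6],
   [5, 7, 5, 7],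
   [5, 8, 5, 8, 5, 8],
   [5, 1, 5, 1],
   [5, 0, 5, 0],
   [6, 7, 6, 7, 6, 7],
   [6, 8, 6, 8],
   [6, 1, 6, 1],
   [6, 0, 6, 0],
   [7, 8, 7, 8],
   [7, 1, 7, 1],
   [7, 0, 7, 0],
   [8, 1, 8, 1],
   [8, 0, 8, 0],
   [1, 0, 1, 0, 1, 0],
   [0, 8, 7, 6, 5, 4, 3, 2, 8, 7, 6, 5, 4, 3, 2, 8, 7, 6, 5, 4, 3, 2, 8, 7, 6, 5, 4, 3, 2, 8, 7, 6, 5, 4, 3, 2, 8, 7, 6, 5, 4, 3, 2, 8, 7, 6, 5, 4, 3, 2, 8, 7, 6, 5, 4, 3, 2, 8, 7, 6, 5, 4, 3, 2]]⟩

namespace C2
noncomputable def m0_0 : ℕ := nat_lit 0x8000000000000000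

noncomputable def m0_1 : ℕ := nat_lit 0x8000000000000000600c8040

noncomputable def m0_2 : ℕ := nat_lit 0xb800000020040000e08000000000

noncomputable def m0_3 : ℕ := nat_lit 0x180083001800e000180020006000a0

noncomputable def m0_4 : ℕ := nat_lit 0x80400000002000c080a000008050a0e

noncomputable def m0_5 : ℕ := nat_lit 0x20120000200200230002200030200330

noncomputable def m0_6 : ℕ := nat_lit 0x1100400011401000444054

noncomputable def m0_7 : ℕ := nat_lit 0x200200002200000200000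

noncomputable def m0_8 : ℕ := nat_lit 0x80400000002000c000a000008040a0e

noncomputable def m0_9 : ℕ := nat_lit 0x180000001800e000180020006000a0

noncomputable def m0_10 : ℕ := nat_lit 0xb800000020040000e08000000000

noncomputable def m0_11 : ℕ := nat_lit 0x8000000000000000600c8040

noncomputable def m0_12 : ℕ := nat_lit 0x8000000000000000

noncomputable def net0 : Net := (.cons 64 m0_0 (.cons 32 m0_1 (.cons 16 m0_2 (.cons 8 m0_3 (.cons 4 m0_4 (.cons 2 m0_5 (.cons 1 m0_6 (.cons 2 m0_7 (.cons 4 m0_8 (.cons 8 m0_9 (.cons 16 m0_10 (.cons 32 m0_11 (.cons 64 m0_12 .nil)))))))))))))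

theorem ok0 : Net.ok 128 net0 = true :=
  by decide +kernel

noncomputable def m1_0 : ℕ := nat_lit 0x7000000000000000

noncomputable def m1_1 : ℕ := nat_lit 0xb00010000000000018010000

noncomputable def m1_2 : ℕ := nat_lit 0x3e00000024080000980000004000

noncomputable def m1_3 : ℕ := nat_lit 0x1e0020004000000000002800580080

noncomputable def m1_4 : ℕ := nat_lit 0xc080006040c000800080004040c00

noncomputable def m1_5 : ℕ := nat_lit 0x10300220100120020000300012022210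

noncomputable def m1_6 : ℕ := nat_lit 0x40111140000000000400501400014001

noncomputable def m1_7 : ℕ := nat_lit 0x200220000000000000000000022000

noncomputable def m1_8 : ℕ := nat_lit 0xc000800040408000800080004000c00

noncomputable def m1_9 : ℕ := nat_lit 0xc20020004000000000002800580080

noncomputable def m1_10 : ℕ := nat_lit 0x3e00000024080000980000004000

noncomputable def m1_11 : ℕ := nat_lit 0xb00010000000000018010000

noncomputable def m1_12 : ℕ := nat_lit 0x7000000000000000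

noncomputable def net1 : Net := (.cons 64 m1_0 (.cons 32 m1_1 (.cons 16 m1_2 (.cons 8 m1_3 (.cons 4 m1_4 (.cons 2 m1_5 (.cons 1 m1_6 (.cons 2 m1_7 (.cons 4 m1_8 (.cons 8 m1_9 (.cons 16 m1_10 (.cons 32 m1_11 (.cons 64 m1_12 .nil)))))))))))))

theorem ok1 : Net.ok 128 net1 = true :=
  by decide +kernel

noncomputable def m2_0 : ℕ := nat_lit 0xcc08100800000000

noncomputable def m2_1 : ℕ := nat_lit 0x5c2d20000000000006004000

noncomputable def m2_2 : ℕ := nat_lit 0x258000006c080000360000006000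

noncomputable def m2_3 : ℕ := nat_lit 0x82004c000600000010000a00240000

noncomputable def m2_4 : ℕ := nat_lit 0x1080804020a00000208000002020204

noncomputable def m2_5 : ℕ := nat_lit 0x20022012230003020020020021000012

noncomputable def m2_6 : ℕ := nat_lit 0x11011001050540000110040540001000

noncomputable def m2_7 : ℕ := nat_lit 0x2022002000000000020020020000000

noncomputable def m2_8 : ℕ := nat_lit 0xa080804020a00000208000002000204

noncomputable def m2_9 : ℕ := nat_lit 0x82000c000600000010000a00240000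

noncomputable def m2_10 : ℕ := nat_lit 0x258000006c080000360000006000

noncomputable def m2_11 : ℕ := nat_lit 0x5c2d20000000000006004000

noncomputable def m2_12 : ℕ := nat_lit 0xcc08100800000000

noncomputable def net2 : Net := (.cons 64 m2_0 (.cons 32 m2_1 (.cons 16 m2_2 (.cons 8 m2_3 (.cons 4 m2_4 (.cons 2 m2_5 (.cons 1 m2_6 (.cons 2 m2_7 (.cons 4 m2_8 (.cons 8 m2_9 (.cons 16 m2_10 (.cons 32 m2_11 (.cons 64 m2_12 .nil)))))))))))))

theorem ok2 : Net.ok 128 net2 = true :=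
  by decide +kernel

noncomputable def m3_0 : ℕ := nat_lit 0x1b00000000000000

noncomputable def m3_1 : ℕ := nat_lit 0x3f0444000000000000000000

noncomputable def m3_2 : ℕ := nat_lit 0x4324000013420000088000000000

noncomputable def m3_3 : ℕ := nat_lit 0xc00a8004000c00042008200000040

noncomputable def m3_4 : ℕ := nat_lit 0xa0c00020c000c00080c000008080402

noncomputable def m3_5 : ℕ := nat_lit 0x30220301210003000201220002020222

noncomputable def m3_6 : ℕ := nat_lit 0x1410540100010014000140101000410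

noncomputable def m3_7 : ℕ := nat_lit 0x220000200000000000220002000220

noncomputable def m3_8 : ℕ := nat_lit 0xa0c00000c000c000804000008080402

noncomputable def m3_9 : ℕ := nat_lit 0xc00a8004000c00042008200000040

noncomputable def m3_10 : ℕ := nat_lit 0x4324000012020000088000000000

noncomputable def m3_11 : ℕ := nat_lit 0x3f0444000000000000000000

noncomputable def m3_12 : ℕ := nat_lit 0x1b00000000000000

noncomputable def net3 : Net := (.cons 64 m3_0 (.cons 32 m3_1 (.cons 16 m3_2 (.cons 8 m3_3 (.cons 4 m3_4 (.cons 2 m3_5 (.cons 1 m3_6 (.cons 2 m3_7 (.cons 4 m3_8 (.cons 8 m3_9 (.cons 16 m3_10 (.cons 32 m3_11 (.cons 64 m3_12 .nil)))))))))))))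

theorem ok3 : Net.ok 128 net3 = true :=
  by decide +kernel

noncomputable def m4_0 : ℕ := nat_lit 0x36d4830080000000

noncomputable def m4_1 : ℕ := nat_lit 0x27cc09000000000040000000

noncomputable def m4_2 : ℕ := nat_lit 0xab000000cec40000416000001000

noncomputable def m4_3 : ℕ := nat_lit 0xb0001100080000000400e0001000a2

noncomputable def m4_4 : ℕ := nat_lit 0xe0201010000080108020c0000020a02

noncomputable def m4_5 : ℕ := nat_lit 0x2200000202002310130200000000000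

noncomputable def m4_6 : ℕ := nat_lit 0x51100000404001144051444000100500

noncomputable def m4_7 : ℕ := nat_lit 0x2200000202002200000200000000000

noncomputable def m4_8 : ℕ := nat_lit 0xe0000000000080c08020c0000020a00

noncomputable def m4_9 : ℕ := nat_lit 0xb000000000000000040020001000a2

noncomputable def m4_10 : ℕ := nat_lit 0xab000000c8c40000416000001000

noncomputable def m4_11 : ℕ := nat_lit 0x27cc09000000000040000000

noncomputable def m4_12 : ℕ := nat_lit 0x36d4830080000000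

noncomputable def net4 : Net := (.cons 64 m4_0 (.cons 32 m4_1 (.cons 16 m4_2 (.cons 8 m4_3 (.cons 4 m4_4 (.cons 2 m4_5 (.cons 1 m4_6 (.cons 2 m4_7 (.cons 4 m4_8 (.cons 8 m4_9 (.cons 16 m4_10 (.cons 32 m4_11 (.cons 64 m4_12 .nil)))))))))))))

theorem ok4 : Net.ok 128 net4 = true :=
  by decide +kernel

noncomputable def m5_0 : ℕ := nat_lit 0x1b0040000000000

noncomputable def m5_1 : ℕ := nat_lit 0x953200880000000030000000

noncomputable def m5_2 : ℕ := nat_lit 0x5c92000041e40000144000002000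

noncomputable def m5_3 : ℕ := nat_lit 0x4000c0000000000044005000e20000

noncomputable def m5_4 : ℕ := nat_lit 0x8000509000c00000604040800040400

noncomputable def m5_5 : ℕ := nat_lit 0x100020201200010210300000200200

noncomputable def m5_6 : ℕ := nat_lit 0x11400000001400505001400100

noncomputable def m5_7 : ℕ := nat_lit 0x2200000000200000000200200

noncomputable def m5_8 : ℕ := nat_lit 0x2000c00000604040800040000

noncomputable def m5_9 : ℕ := nat_lit 0x4000c0000000000044005000220000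

noncomputable def m5_10 : ℕ := nat_lit 0x5c12000040840000144000002000

noncomputable def m5_11 : ℕ := nat_lit 0x953200880000000030000000

noncomputable def m5_12 : ℕ := nat_lit 0x1b0040000000000

noncomputable def net5 : Net := (.cons 64 m5_0 (.cons 32 m5_1 (.cons 16 m5_2 (.cons 8 m5_3 (.cons 4 m5_4 (.cons 2 m5_5 (.cons 1 m5_6 (.cons 2 m5_7 (.cons 4 m5_8 (.cons 8 m5_9 (.cons 16 m5_10 (.cons 32 m5_11 (.cons 64 m5_12 .nil)))))))))))))

theorem ok5 : Net.ok 128 net5 = true :=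
  by decide +kernel

noncomputable def m6_0 : ℕ := nat_lit 0x9422000000000000

noncomputable def m6_1 : ℕ := nat_lit 0x4af248000000000085000000

noncomputable def m6_2 : ℕ := nat_lit 0x4a50000025220000854000004000

noncomputable def m6_3 : ℕ := nat_lit 0xd000a00080000000b00019001c0000

noncomputable def m6_4 : ℕ := nat_lit 0x80e040008000009040c0208040800

noncomputable def m6_5 : ℕ := nat_lit 0x20120010000200000020020002010000

noncomputable def m6_6 : ℕ := nat_lit 0x14000004100100110400401044000000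

noncomputable def m6_7 : ℕ := nat_lit 0x20000000000200000000000002000000

noncomputable def m6_8 : ℕ := nat_lit 0x800040008000008000c0208040000

noncomputable def m6_9 : ℕ := nat_lit 0xd000a00080000000b00018000c0000

noncomputable def m6_10 : ℕ := nat_lit 0x4a50000020220000854000004000

noncomputable def m6_11 : ℕ := nat_lit 0x4af248000000000085000000

noncomputable def m6_12 : ℕ := nat_lit 0x9422000000000000

noncomputable def net6 : Net := (.cons 64 m6_0 (.cons 32 m6_1 (.cons 16 m6_2 (.cons 8 m6_3 (.cons 4 m6_4 (.cons 2 m6_5 (.cons 1 m6_6 (.cons 2 m6_7 (.cons 4 m6_8 (.cons 8 m6_9 (.cons 16 m6_10 (.cons 32 m6_11 (.cons 64 m6_12 .nil)))))))))))))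

theorem ok6 : Net.ok 128 net6 = true :=
  by decide +kernel

noncomputable def m7_0 : ℕ := nat_lit 0x4a90000000000000

noncomputable def m7_1 : ℕ := nat_lit 0x4a8892080000000052010000

noncomputable def m7_2 : ℕ := nat_lit 0x821000004ad20000528000008000

noncomputable def m7_3 : ℕ := nat_lit 0x88000000000000004c00dc00d80000

noncomputable def m7_4 : ℕ := nat_lit 0x80802080000000c0d0c080000010000

noncomputable def m7_5 : ℕ := nat_lit 0x2000020000020100202222220200000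

noncomputable def m7_6 : ℕ := nat_lit 0x40001010005145040400040140000000

noncomputable def m7_7 : ℕ := nat_lit 0x20000020000200020220000000

noncomputable def m7_8 : ℕ := nat_lit 0x80002080000000c0408080000000000

noncomputable def m7_9 : ℕ := nat_lit 0x88000000000000004c008c00d00000

noncomputable def m7_10 : ℕ := nat_lit 0x821000004a120000528000008000

noncomputable def m7_11 : ℕ := nat_lit 0x4a8892080000000052010000

noncomputable def m7_12 : ℕ := nat_lit 0x4a90000000000000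

noncomputable def net7 : Net := (.cons 64 m7_0 (.cons 32 m7_1 (.cons 16 m7_2 (.cons 8 m7_3 (.cons 4 m7_4 (.cons 2 m7_5 (.cons 1 m7_6 (.cons 2 m7_7 (.cons 4 m7_8 (.cons 8 m7_9 (.cons 16 m7_10 (.cons 32 m7_11 (.cons 64 m7_12 .nil)))))))))))))

theorem ok7 : Net.ok 128 net7 = true :=
  by decide +kernel

noncomputable def m8_0 : ℕ := nat_lit 0x50000000000000

noncomputable def m8_1 : ℕ := nat_lit 0x20540800000000008b010800

noncomputable def m8_2 : ℕ := nat_lit 0xd3440000087000008b000000c800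

noncomputable def m8_3 : ℕ := nat_lit 0xaa00200008000000a8003b00b40000

noncomputable def m8_4 : ℕ := nat_lit 0x6060006000000080200050b000c0000

noncomputable def m8_5 : ℕ := nat_lit 0x3010020000000202012002212200000

noncomputable def m8_6 : ℕ := nat_lit 0x15000041000400000101411401140000

noncomputable def m8_7 : ℕ := nat_lit 0x20000000000002020202200000

noncomputable def m8_8 : ℕ := nat_lit 0x6040006000000080200040a000c0000

noncomputable def m8_9 : ℕ := nat_lit 0x2a00200008000000a8002000900000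

noncomputable def m8_10 : ℕ := nat_lit 0xd3440000082000008b000000c800

noncomputable def m8_11 : ℕ := nat_lit 0x20540800000000008b010800

noncomputable def m8_12 : ℕ := nat_lit 0x50000000000000

noncomputable def net8 : Net := (.cons 64 m8_0 (.cons 32 m8_1 (.cons 16 m8_2 (.cons 8 m8_3 (.cons 4 m8_4 (.cons 2 m8_5 (.cons 1 m8_6 (.cons 2 m8_7 (.cons 4 m8_8 (.cons 8 m8_9 (.cons 16 m8_10 (.cons 32 m8_11 (.cons 64 m8_12 .nil)))))))))))))

theorem ok8 : Net.ok 128 net8 = true :=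
  by decide +kernel

noncomputable def nets : List Net := [net0, net1, net2, net3, net4, net5, net6, net7, net8]

noncomputable def act : Act := netAct' nets
noncomputable def π : ℕ → Equiv.Perm ℕ := netPerm nets

theorem spec : act.Spec 128 π :=
  spec_fast (netAct_spec (AllP.forall (p := fun t => Net.ok 128 t = true) ⟨ok0, ok1, ok2, ok3, ok4, ok5, ok6, ok7, ok8, trivial⟩))

theorem out : ∀ k, 9 ≤ k → π k = 1 :=
  netPerm_out nets

theorem sat_inv_0 : invC Cfsg.Agent.Spor.FiC.C2.act Cfsg.Agent.Spor.FiC.E8l.I 128 7 Cfsg.Agent.Spor.FiC.E8l.inv.length [0, 1, 2, 3, 4, 5, 6] = true :=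
  by decide +kernel

theorem sat_inv : ∀ k, Cfsg.Agent.Spor.FiC.C2.π (Cfsg.Agent.Spor.FiC.E8l.I k) * Cfsg.Agent.Spor.FiC.C2.π k = 1 :=
  inv_of_checks Cfsg.Agent.Spor.FiC.C2.spec (K := 7) (by decide) Cfsg.Agent.Spor.FiC.C2.out [[0, 1, 2, 3, 4, 5, 6]] (by decide) ⟨sat_inv_0, trivial⟩

theorem sat_rel_0_0 : relsC Cfsg.Agent.Spor.FiC.C2.act Cfsg.Agent.Spor.FiC.E8l.I 128 7 [[2, 3, 2, 3, 2, 3], [2, 4, 2, 4], [2, 5, 2, 5], [2, 6, 2, 6], [2, 7, 2, 7], [2, 8, 2, 8], [2, 1, 2, 1, 2, 1], [2, 0, 2, 0], [3, 4, 3, 4, 3, 4], [3, 5, 3, 5], [3, 6, 3, 6], [3, 7, 3, 7], [3, 8, 3, 8], [3, 1, 3, 1], [3, 0, 3, 0], [4, 5, 4, 5, 4, 5], [4, 6, 4, 6], [4, 7, 4, 7], [4, 8, 4, 8], [4, 1, 4, 1], [4, 0, 4, 0], [5, 6, 5, 6, 5, 6], [5, 7, 5, 7], [5, 8, 5, 8, 5, 8], [5, 1, 5, 1], [5, 0, 5, 0], [6, 7, 6, 7, 6, 7], [6, 8, 6, 8], [6, 1, 6, 1], [6, 0, 6, 0], [7, 8, 7, 8], [7, 1, 7, 1], [7, 0, 7, 0], [8, 1, 8, 1], [8, 0, 8, 0], [1, 0, 1,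 0, 1, 0], [0, 8, 7, 6, 5, 4, 3, 2, 8, 7, 6, 5, 4, 3, 2, 8, 7, 6, 5, 4, 3, 2, 8, 7, 6, 5, 4, 3, 2, 8, 7, 6, 5, 4, 3, 2, 8, 7, 6, 5, 4, 3, 2, 8, 7, 6, 5, 4, 3, 2, 8, 7, 6, 5, 4, 3, 2, 8, 7, 6, 5, 4, 3, 2]] [0, 1, 2, 3, 4, 5, 6] = true :=
  by decide +kernel

theorem sat_rel_0 : ∀ r ∈ ([[2, 3, 2, 3, 2, 3], [2, 4, 2, 4], [2, 5, 2, 5], [2, 6, 2, 6], [2, 7, 2, 7], [2, 8, 2, 8], [2, 1, 2, 1, 2, 1], [2, 0, 2, 0], [3, 4, 3, 4, 3, 4], [3, 5, 3, 5], [3, 6, 3, 6], [3, 7, 3, 7], [3, 8, 3, 8], [3, 1, 3, 1], [3, 0, 3, 0], [4, 5, 4, 5, 4, 5], [4, 6, 4, 6], [4, 7, 4, 7], [4, 8, 4, 8], [4, 1, 4, 1], [4, 0, 4, 0], [5, 6, 5, 6, 5, 6], [5, 7, 5, 7], [5, 8, 5, 8, 5, 8], [5, 1, 5, 1], [5, 0, 5, 0], [6, 7, 6, 7, 6, 7], [6, 8, 6, 8], [6, 1, 6, 1], [6, 0, 6, 0], [7, 8, 7, 8], [7, 1, 7, 1], [7, 0, 7, 0], [8, 1, 8, 1], [8, 0, 8, 0], [1, 0, 1, 0, 1, 0], [0, 8, 7, 6, 5, 4, 3, 2, 8, 7, 6, 5, 4, 3, 2, 8, 7, 6, 5, 4, 3, 2, 8, 7, 6,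 5, 4, 3, 2, 8, 7, 6, 5, 4, 3, 2, 8, 7, 6, 5, 4, 3, 2, 8, 7, 6, 5, 4, 3, 2, 8, 7, 6, 5, 4, 3, 2, 8, 7, 6, 5, 4, 3, 2]] : List (List ℕ)), ev Cfsg.Agent.Spor.FiC.C2.π r = 1 :=
  rels_of_checks Cfsg.Agent.Spor.FiC.C2.spec (K := 7) (by decide) sat_inv _ [[0, 1, 2, 3, 4, 5, 6]] (by decide) ⟨sat_rel_0_0, trivial⟩

theorem sat_rel : ∀ r ∈ ([[2, 3, 2, 3, 2, 3], [2, 4, 2, 4], [2, 5, 2, 5], [2, 6, 2, 6], [2, 7, 2, 7], [2, 8, 2, 8], [2, 1, 2, 1, 2, 1], [2, 0, 2, 0], [3, 4, 3, 4, 3, 4], [3, 5, 3, 5], [3, 6, 3, 6], [3, 7, 3, 7], [3, 8, 3, 8], [3, 1, 3, 1], [3, 0, 3, 0], [4, 5, 4, 5, 4, 5], [4, 6, 4, 6], [4, 7, 4, 7], [4, 8, 4, 8], [4, 1, 4, 1], [4, 0, 4, 0], [5, 6, 5, 6, 5, 6], [5, 7, 5, 7], [5, 8, 5, 8, 5, 8], [5, 1, 5, 1], [5, 0, 5, 0], [6, 7, 6, 7, 6, 7], [6, 8, 6, 8], [6, 1, 6, 1], [6, 0, 6, 0], [7, 8, 7, 8], [7, 1, 7, 1], [7, 0, 7, 0], [8, 1, 8, 1], [8, 0, 8, 0], [1, 0, 1, 0, 1, 0], [0, 8, 7, 6, 5, 4, 3, 2, 8,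 7, 6, 5, 4, 3, 2, 8, 7, 6, 5, 4, 3, 2, 8, 7, 6, 5, 4, 3, 2, 8, 7, 6, 5, 4, 3, 2, 8, 7, 6, 5, 4, 3, 2, 8, 7, 6, 5, 4, 3, 2, 8, 7, 6, 5, 4, 3, 2, 8, 7, 6, 5, 4, 3, 2]] : List (List ℕ)), ev Cfsg.Agent.Spor.FiC.C2.π r = 1 :=
  rels_join [[[2, 3, 2, 3, 2, 3], [2, 4, 2, 4], [2, 5, 2, 5], [2, 6, 2, 6], [2, 7, 2, 7], [2, 8, 2, 8], [2, 1, 2, 1, 2, 1], [2, 0, 2, 0], [3, 4, 3, 4, 3, 4], [3, 5, 3, 5], [3, 6, 3, 6], [3, 7, 3, 7], [3, 8, 3, 8], [3, 1, 3, 1], [3, 0, 3, 0], [4, 5, 4, 5, 4, 5], [4, 6, 4, 6], [4, 7, 4, 7], [4, 8, 4, 8], [4, 1, 4, 1], [4, 0, 4, 0], [5, 6, 5, 6, 5, 6], [5, 7, 5, 7], [5, 8, 5, 8, 5, 8], [5, 1, 5, 1], [5, 0, 5, 0], [6, 7, 6, 7, 6, 7], [6, 8, 6, 8], [6, 1, 6, 1], [6, 0, 6, 0], [7, 8, 7, 8], [7, 1, 7, 1], [7, 0, 7, 0], [8, 1, 8, 1], [8, 0, 8, 0], [1, 0, 1, 0, 1, 0], [0, 8, 7, 6, 5, 4, 3, 2, 8, 7, 6, 5, 4, 3, 2, 8, 7, 6, 5, 4, 3, 2, 8, 7, 6, 5, 4, 3, 2, 8, 7, 6, 5, 4, 3, 2, 8, 7, 6, 5, 4, 3,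 2, 8, 7, 6, 5, 4, 3, 2, 8, 7, 6, 5, 4, 3, 2, 8, 7, 6, 5, 4, 3, 2]]] ⟨sat_rel_0, trivial⟩

theorem sat : Sat Cfsg.Agent.Spor.FiC.E8l Cfsg.Agent.Spor.FiC.C2.π :=
  ⟨Cfsg.Agent.Spor.FiC.C2.out, sat_inv, sat_rel⟩

noncomputable def done_tr0 : ℕ := nat_lit 0xed36be9da3ce5339b7379b365bb51c

noncomputable def done_tr1 : ℕ := nat_lit 0x12cdfdfd4fc9a72614c261c30cd85a

noncomputable def done_tr2 : ℕ := nat_lit 0x56ddfdb7c67fa5fe1fc3e1c38eefa0

noncomputable def done_tr3 : ℕ := nat_lit 0xa922020030005801e03c1e3c710000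

noncomputable def done_t0_0 : ℕ := nat_lit 0xf003ffc000ffff8001ffc01fe078e3

noncomputable def done_t0_1 : ℕ := nat_lit 0xeffc004000fffffffe00001fff80f8

noncomputable def done_t0_2 : ℕ := nat_lit 0xeffbffbfff0000000000001fffff00

noncomputable def done_t0_3 : ℕ := nat_lit 0xeffbffbff7ffffffffffffe0000000

noncomputable def done_t0_4 : ℕ := nat_lit 0x100400400800000000000000000000

noncomputable def done_t1_0 : ℕ := nat_lit 0xfc08ff30019ffff0007ff007f83c31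

noncomputable def done_t1_1 : ℕ := nat_lit 0x307c60be00e3fd83fe603c19e3a6ac

noncomputable def done_t1_2 : ℕ := nat_lit 0xedf31f01f600000000603c1fffd900

noncomputable def done_t1_3 : ℕ := nat_lit 0xedf37f37f67ffdffff9fc3e0000000

noncomputable def done_t1_4 : ℕ := nat_lit 0x20080080080000000000000000000

noncomputable def done_t2_0 : ℕ := nat_lit 0xe78d1f260823fdfc081ffc01fc0e67

noncomputable def done_t2_1 : ℕ := nat_lit 0x374be1920a03fd3ff7e00001ffe060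

noncomputable def done_t2_2 : ℕ := nat_lit 0x14060e607453000f00780f06f9cd80

noncomputable def done_t2_3 : ℕ := nat_lit 0x35465e65fc4cfd30f787f0f8000000

noncomputable def done_t2_4 : ℕ := nat_lit 0xc8b020020010000000000000000000

noncomputable def done_t3_0 : ℕ := nat_lit 0x409ddd210d86fc3f0307ff007e0c5d

noncomputable def done_t3_1 : ℕ := nat_lit 0x32d179354fc13f2434e603817de006

noncomputable def done_t3_2 : ℕ := nat_lit 0xdf2e8ec9f00bc003c01800007dfd00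

noncomputable def done_t3_3 : ℕ := nat_lit 0x561c84c839883e2434e17c7e000000

noncomputable def done_t3_4 : ℕ := nat_lit 0x204010008002000000000000000000

noncomputable def done_t4_0 : ℕ := nat_lit 0xbcda7204bb13c07c8c07fc0fc1aed

noncomputable def done_t4_1 : ℕ := nat_lit 0x2a2812250ff8bfe1f43e00007dc00e

noncomputable def done_t4_2 : ℕ := nat_lit 0x2b6eecda7000c00000000000fdc850

noncomputable def done_t4_3 : ℕ := nat_lit 0x2b6ee6fa1fb026c108381f3f000000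

noncomputable def done_t4_4 : ℕ := nat_lit 0x900008004000800000000000000000

noncomputable def done_t5_0 : ℕ := nat_lit 0xd04be940bfe5101ff301f30fa35cd

noncomputable def done_t5_1 : ℕ := nat_lit 0xe000020039be1af8400f000039920e

noncomputable def done_t5_2 : ℕ := nat_lit 0xed320c4ba0001000000100003992f0

noncomputable def done_t5_3 : ℕ := nat_lit 0xed320e4b89be02f84f0e870e000000

noncomputable def done_t5_4 : ℕ := nat_lit 0x2000100000000000000000

noncomputable def done_t6_0 : ℕ := nat_lit 0x1fc0036af9b784954bc154c1a479cd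

noncomputable def done_t6_1 : ℕ := nat_lit 0xe00003200c92964be03c0a5471360e

noncomputable def done_t6_2 : ℕ := nat_lit 0xfffb400020004c00000000402037f0

noncomputable def done_t6_3 : ℕ := nat_lit 0xfffb43202c92ea4b4968b428820000

noncomputable def done_t6_4 : ℕ := nat_lit 0x200000000000000000

noncomputable def done_t7_0 : ℕ := nat_lit 0x1fc003f74831a5e618c7614789f1cd

noncomputable def done_t7_1 : ℕ := nat_lit 0xe00003fd6fc9d20780f57af0417e0e

noncomputable def done_t7_2 : ℕ := nat_lit 0xfffff84a89b622d82b008000017ff0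

noncomputable def done_t7_3 : ℕ := nat_lit 0xffffffb50648212024050285960000

noncomputable def done_t7_4 : ℕ := nat_lit 0

noncomputable def done_t8_0 : ℕ := nat_lit 0x52c5f9201fffa8005fcb05cbacf9cd

noncomputable def done_t8_1 : ℕ := nat_lit 0x20000001bffa3fe0000004000360e

noncomputable def done_t8_2 : ℕ := nat_lit 0x204b8dfd0002000000000400037f0

noncomputable def done_t8_3 : ℕ := nat_lit 0x204bcdfcbff87fe0fc0e000820000

noncomputable def done_t8_4 : ℕ := nat_lit 0x541804001000040000000000000000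

noncomputable def doneC : TC := ⟨Cfsg.Agent.Spor.FiC.E8l, [[0], [2], [3], [4], [5], [6], [7], [8]], 120, 128, 7, 5, [done_tr0, done_tr1, done_tr2, done_tr3],
  [[done_t0_0, done_t0_1, done_t0_2, done_t0_3, done_t0_4],
   [done_t1_0, done_t1_1, done_t1_2, done_t1_3, done_t1_4],
   [done_t2_0, done_t2_1, done_t2_2, done_t2_3, done_t2_4],
   [done_t3_0, done_t3_1, done_t3_2, done_t3_3, done_t3_4],
   [done_t4_0, done_t4_1, done_t4_2, done_t4_3, done_t4_4],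
   [done_t5_0, done_t5_1, done_t5_2, done_t5_3, done_t5_4],
   [done_t6_0, done_t6_1, done_t6_2, done_t6_3, done_t6_4],
   [done_t7_0, done_t7_1, done_t7_2, done_t7_3, done_t7_4],
   [done_t8_0, done_t8_1, done_t8_2, done_t8_3, done_t8_4]]⟩

theorem done_s : doneC.structC Cfsg.Agent.Spor.FiC.C2.act = true :=
  by decide +kernel

theorem done_c0_0 : doneC.coverC Cfsg.Agent.Spor.FiC.C2.act 0 true [(21, 1), (42, 1), (60, 1), (75, 1), (87, 1)] [(true, 0, 0, 0), (false, 2, 0, 2), (false, 96, 1, 19), (false, 96, 1, 15), (false, 96, 1, 28), (false, 96, 1, 25), (false, 96, 1, 22), (false, 96, 1, 35), (false, 96, 1, 94), (false, 102, 1, 14), (false, 102, 1, 11), (false, 102, 1, 18), (false, 102, 1, 93), (false, 102, 1, 82), (false, 102, 1, 102), (false, 105, 1, 4)] 0 (ones 120) = true :=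
  by decide +kernel

theorem done_j0 : doneC.JustS Cfsg.Agent.Spor.FiC.C2.π 0 (ones 120) :=
  TC.cover_step Cfsg.Agent.Spor.FiC.C2.spec done_s (TC.justS_zero 0) done_c0_0

theorem done_c1_0 : doneC.coverC Cfsg.Agent.Spor.FiC.C2.act 1 true [(39, 1), (57, 1), (72, 1), (84, 1)] [(false, 5, 0, 1), (false, 5, 0, 6), (false, 5, 0, 83), (false, 5, 0, 94), (false, 93, 1, 15), (false, 93, 1, 25), (false, 93, 1, 22), (false, 93, 1, 19), (false, 93, 1, 35), (false, 93, 1, 32), (false, 93, 1, 28), (false, 93, 1, 44), (false, 93, 1, 91), (false, 99, 1, 11), (false, 99, 1, 18), (false, 99, 1, 14), (false, 99, 1, 24), (false, 99, 1, 82), (false, 99, 1, 102), (false, 99, 1, 93), (false, 99, 1, 110), (false, 18, 1, 1), (false, 18, 1, 9), (false, 105, 0, 2)] 0 (ones 120) = true :=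
  by decide +kernel

theorem done_j1 : doneC.JustS Cfsg.Agent.Spor.FiC.C2.π 1 (ones 120) :=
  TC.cover_step Cfsg.Agent.Spor.FiC.C2.spec done_s (TC.justS_zero 1) done_c1_0

theorem done_c2_0 : doneC.coverC Cfsg.Agent.Spor.FiC.C2.act 2 true [(3, 0), (6, 0), (9, 0), (12, 0)] [(true, 1, 0, 0), (false, 8, 0, 3), (false, 8, 0, 4), (false, 8, 0, 12), (false, 8, 0, 65), (false, 8, 0, 79), (false, 8, 0, 80), (false, 8, 0, 91), (false, 8, 0, 114), (false, 15, 0, 16), (false, 15, 0, 20), (false, 15, 0, 33), (false, 15, 0, 26), (false, 15, 0, 42), (false, 15, 0, 97), (false, 15, 0, 105), (false, 15, 0, 117), (false, 15, 0, 112), (false, 21, 0, 7), (false, 0, 0, 5), (false, 0, 0, 23), (false, 18, 0, 6), (false, 18, 0, 83), (false, 18, 0, 111), (false, 18, 0, 118)] 0 (ones 120) = true :=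
  by decide +kernel

theorem done_j2 : doneC.JustS Cfsg.Agent.Spor.FiC.C2.π 2 (ones 120) :=
  TC.cover_step Cfsg.Agent.Spor.FiC.C2.spec done_s (TC.justS_zero 2) done_c2_0

theorem done_c3_0 : doneC.coverC Cfsg.Agent.Spor.FiC.C2.act 3 true [(27, 0), (30, 0), (33, 0), (36, 0)] [(true, 2, 0, 0), (false, 11, 0, 5), (false, 11, 0, 7), (false, 11, 0, 9), (false, 11, 0, 23), (false, 11, 0, 51), (false, 11, 0, 62), (false, 11, 0, 63), (false, 11, 0, 76), (false, 11, 0, 77), (false, 11, 0, 89), (false, 39, 0, 1), (false, 39, 0, 13), (false, 39, 0, 83), (false, 42, 0, 2), (false, 42, 0, 10), (false, 0, 1, 9), (false, 0, 1, 51), (false, 0, 1, 62), (false, 0, 1, 102), (false, 0, 1, 112), (false, 24, 0, 8), (false, 24, 0, 40), (false, 24, 0, 108), (false, 24, 0, 114), (false, 24, 0, 118)] 0 (ones 120) = true :=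
  by decide +kernel

theorem done_j3 : doneC.JustS Cfsg.Agent.Spor.FiC.C2.π 3 (ones 120) :=
  TC.cover_step Cfsg.Agent.Spor.FiC.C2.spec done_s (TC.justS_zero 3) done_c3_0

theorem done_c4_0 : doneC.coverC Cfsg.Agent.Spor.FiC.C2.act 4 true [(14, 0), (3, 1), (48, 0), (51, 0)] [(true, 3, 0, 0), (false, 54, 0, 16), (false, 54, 0, 20), (false, 54, 0, 26), (false, 54, 0, 53), (false, 54, 0, 42), (false, 54, 0, 97), (false, 54, 0, 105), (false, 54, 0, 112), (false, 57, 0, 1), (false, 57, 0, 6), (false, 57, 0, 18), (false, 57, 0, 76), (false, 57, 0, 83), (false, 57, 0, 102), (false, 57, 0, 119), (false, 57, 0, 116), (false, 60, 0, 2), (false, 60, 0, 14), (false, 60, 0, 115), (false, 24, 1, 17), (false, 24, 1, 39), (false, 24, 1, 48), (false, 24, 1, 88), (false, 45, 0, 11), (false, 45, 0, 66), (false, 45, 0, 69), (false, 45, 0, 82), (false, 45, 0, 93), (false, 108, 5, 65), (false, 108, 5, 79)] 0 (ones 120) =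 true :=
  by decide +kernel

theorem done_j4 : doneC.JustS Cfsg.Agent.Spor.FiC.C2.π 4 (ones 120) :=
  TC.cover_step Cfsg.Agent.Spor.FiC.C2.spec done_s (TC.justS_zero 4) done_c4_0

theorem done_c5_0 : doneC.coverC Cfsg.Agent.Spor.FiC.C2.act 5 true [(17, 0), (6, 1), (27, 1)] [(true, 4, 0, 0), (false, 66, 0, 21), (false, 66, 0, 27), (false, 66, 0, 34), (false, 66, 0, 49), (false, 66, 0, 60), (false, 66, 0, 84), (false, 66, 0, 68), (false, 66, 0, 74), (false, 66, 0, 67), (false, 66, 0, 94), (false, 72, 0, 1), (false, 72, 0, 6), (false, 72, 0, 25), (false, 72, 0, 26), (false, 72, 0, 59), (false, 72, 0, 75), (false, 72, 0, 83), (false, 72, 0, 112), (false, 72, 0, 118), (false, 75, 0, 2), (false, 75, 0, 19), (false, 75, 0, 20), (false, 45, 1, 30), (false, 45, 1, 31), (false, 45, 1, 37), (false, 45, 1, 70), (false, 45, 1, 96), (false, 45, 1, 104), (false, 63, 0, 15), (false, 63, 0, 50), (false, 63, 0, 61), (false,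 63, 0, 98), (false, 69, 0, 16), (false, 69, 0, 97), (false, 69, 0, 105)] 0 (ones 120) = true :=
  by decide +kernel

theorem done_j5 : doneC.JustS Cfsg.Agent.Spor.FiC.C2.π 5 (ones 120) :=
  TC.cover_step Cfsg.Agent.Spor.FiC.C2.spec done_s (TC.justS_zero 5) done_c5_0

theorem done_c6_0 : doneC.coverC Cfsg.Agent.Spor.FiC.C2.act 6 true [(20, 0), (9, 1), (30, 1), (48, 1), (81, 0)] [(true, 5, 0, 0), (false, 84, 0, 1), (false, 84, 0, 6), (false, 84, 0, 34), (false, 84, 0, 46), (false, 84, 0, 83), (false, 84, 0, 102), (false, 84, 0, 116), (false, 87, 0, 2), (false, 87, 0, 27), (false, 63, 1, 22), (false, 63, 1, 28), (false, 63, 1, 52), (false, 63, 1, 53), (false, 63, 1, 64), (false, 63, 1, 78), (false, 78, 0, 21)] 0 (ones 120) = true :=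
  by decide +kernel

theorem done_j6 : doneC.JustS Cfsg.Agent.Spor.FiC.C2.π 6 (ones 120) :=
  TC.cover_step Cfsg.Agent.Spor.FiC.C2.spec done_s (TC.justS_zero 6) done_c6_0

theorem done_c7_0 : doneC.coverC Cfsg.Agent.Spor.FiC.C2.act 7 true [(12, 1), (33, 1), (51, 1), (66, 1), (90, 0)] [(true, 6, 0, 0), (false, 23, 0, 21), (false, 23, 0, 27), (false, 23, 0, 34), (false, 23, 0, 43), (false, 23, 0, 54), (false, 23, 0, 67), (false, 23, 0, 84), (false, 93, 0, 1), (false, 93, 0, 6), (false, 93, 0, 75), (false, 93, 0, 94), (false, 93, 0, 83), (false, 93, 0, 106), (false, 96, 0, 2), (false, 78, 1, 38), (false, 78, 1, 47), (false, 78, 1, 84)] 0 (ones 120) = true :=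
  by decide +kernel

theorem done_j7 : doneC.JustS Cfsg.Agent.Spor.FiC.C2.π 7 (ones 120) :=
  TC.cover_step Cfsg.Agent.Spor.FiC.C2.spec done_s (TC.justS_zero 7) done_c7_0

theorem done_c8_0 : doneC.coverC Cfsg.Agent.Spor.FiC.C2.act 8 true [(26, 0), (15, 1), (36, 1), (54, 1)] [(true, 7, 0, 0), (false, 81, 1, 38), (false, 81, 1, 47), (false, 81, 1, 58), (false, 81, 1, 84), (false, 81, 1, 94), (false, 90, 1, 30), (false, 90, 1, 37), (false, 90, 1, 46), (false, 90, 1, 84), (false, 90, 1, 83), (false, 99, 0, 1), (false, 99, 0, 6), (false, 99, 0, 46), (false, 99, 0, 83), (false, 102, 0, 2), (false, 69, 1, 22), (false, 69, 1, 28), (false, 69, 1, 53), (false, 69, 1, 67)] 0 (ones 120) = true :=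
  by decide +kernel

theorem done_j8 : doneC.JustS Cfsg.Agent.Spor.FiC.C2.π 8 (ones 120) :=
  TC.cover_step Cfsg.Agent.Spor.FiC.C2.spec done_s (TC.justS_zero 8) done_c8_0

theorem done : doneC.Done Cfsg.Agent.Spor.FiC.C2.π :=
  TC.done_of Cfsg.Agent.Spor.FiC.C2.spec sat done_s ⟨done_j0, done_j1, done_j2, done_j3, done_j4, done_j5, done_j6, done_j7, done_j8, trivial⟩

end C2

theorem iC2 : Impl Cfsg.Agent.Spor.FiC.E8l Cfsg.Agent.Spor.FiC.E7l [[0], [2], [3], [4], [5], [6], [7], [8]] :=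
  impl_of_subC (P := Cfsg.Agent.Spor.FiC.E8l) (c1 := [(111, 0), (111, 0), (111, 0), (111, 0), (111, 0), (111, 0), (111, 0), (111, 0)]) (c2 := [(0, 0), (3, 0), (6, 0), (9, 0), (12, 0), (15, 0), (21, 0), (24, 0), (27, 0), (30, 0), (33, 0), (36, 0), (42, 0), (45, 0), (48, 0), (51, 0), (54, 0), (60, 0), (63, 0), (66, 0), (69, 0), (75, 0), (78, 0), (81, 0), (87, 0), (90, 0), (96, 0), (102, 0), (108, 0)]) (by decide +kernel)

theorem bE8l : Bound Cfsg.Agent.Spor.FiC.E8l 348364800 :=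
  C2.done.bound' bE7l iC2 ⟨inSub_of_mem (by decide), inSub_of_mem (by decide), inSub_of_mem (by decide), inSub_of_mem (by decide), inSub_of_mem (by decide), inSub_of_mem (by decide), inSub_of_mem (by decide), inSub_of_mem (by decide), trivial⟩

def R2 : Pres := ⟨[0, 1, 2, 3, 4, 5, 6, 7, 8, 9],
  [[2, 3, 2, 3, 2, 3],
   [2, 4, 2, 4],
   [2, 5, 2, 5],
   [2, 6, 2, 6],
   [2, 7, 2, 7],
   [2, 8, 2, 8],
   [2, 9, 2, 9],
   [2, 1, 2, 1, 2, 1],
   [2, 0, 2, 0],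
   [3, 4, 3, 4, 3, 4],
   [3, 5, 3, 5],
   [3, 6, 3, 6],
   [3, 7, 3, 7],
   [3, 8, 3, 8],
   [3, 9, 3, 9],
   [3, 1, 3, 1],
   [3, 0, 3, 0],
   [4, 5, 4, 5, 4, 5],
   [4, 6, 4, 6],
   [4, 7, 4, 7],
   [4, 8, 4, 8],
   [4, 9, 4, 9],
   [4, 1, 4, 1],
   [4, 0, 4, 0],
   [5, 6, 5, 6, 5, 6],
   [5, 7, 5, 7],
   [5, 8, 5, 8, 5, 8],
   [5, 9, 5, 9],
   [5, 1, 5, 1],
   [5, 0, 5, 0],
   [6, 7, 6, 7, 6, 7],
   [6, 8, 6, 8],
   [6, 9, 6, 9],
   [6, 1, 6, 1],
   [6, 0, 6, 0],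
   [7, 8, 7, 8],
   [7, 9, 7, 9],
   [7, 1, 7, 1],
   [7, 0, 7, 0],
   [8, 9, 8, 9, 8, 9],
   [8, 1, 8, 1],
   [8, 0, 8, 0],
   [9, 1, 9, 1],
   [9, 0, 9, 0],
   [1, 0, 1, 0, 1, 0],
   [0, 8, 7, 6, 5, 4, 3, 2, 8, 7, 6, 5, 4, 3, 2, 8, 7, 6, 5, 4, 3, 2, 8, 7, 6, 5, 4, 3, 2, 8, 7, 6, 5, 4, 3, 2, 8, 7, 6, 5, 4, 3, 2, 8, 7, 6, 5, 4, 3, 2, 8, 7, 6, 5, 4, 3, 2, 8, 7, 6, 5, 4, 3, 2]]⟩

end Cfsg.Agent.Spor.FiC
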