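import Cfsg.Agent.Spor.Fi.O8p
import Cfsg.Agent.Spor.Fi.TC23

set_option autoImplicit false
set_option Elab.async false
set_option maxRecDepth 100000

namespace Cfsg.Agent.Spor.FiC

open Cfsg.Agent.Comp.BN

def P24 : Pres := ⟨[0, 1, 2, 3, 4, 5, 6, 7, 8, 9, 10, 11],
  [[2, 3, 2, 3, 2, 3],
   [2, 4, 2, 4],
   [2, 5, 2, 5],
   [2, 6, 2, 6],
   [2, 7, 2, 7],
   [2, 8, 2, 8],
   [2, 10, 2, 10],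
   [2, 11, 2, 11],
   [2, 9, 2, 9],
   [2, 1, 2, 1, 2, 1],
   [2, 0, 2, 0],
   [3, 4, 3, 4, 3, 4],
   [3, 5, 3, 5],
   [3, 6, 3, 6],
   [3, 7, 3, 7],
   [3, 8, 3, 8],
   [3, 10, 3, 10],
   [3, 11, 3, 11],
   [3, 9, 3, 9],
   [3, 1, 3, 1],
   [3, 0, 3, 0],
   [4, 5, 4, 5, 4, 5],
   [4, 6, 4, 6],
   [4, 7, 4, 7],
   [4, 8, 4, 8],
   [4, 10, 4, 10],
   [4, 11, 4, 11],
   [4, 9, 4, 9],
   [4, 1, 4, 1],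
   [4, 0, 4, 0],
   [5, 6, 5, 6, 5, 6],
   [5, 7, 5, 7],
   [5, 8, 5, 8],
   [5, 10, 5, 10, 5, 10],
   [5, 11, 5, 11],
   [5, 9, 5, 9],
   [5, 1, 5, 1],
   [5, 0, 5, 0],
   [6, 7, 6, 7, 6, 7],
   [6, 8, 6, 8],
   [6, 10, 6, 10],
   [6, 11, 6, 11],
   [6, 9, 6, 9],
   [6, 1, 6, 1],
   [6, 0, 6, 0],
   [7, 8, 7, 8, 7, 8],
   [7, 10, 7, 10],
   [7, 11, 7, 11],
   [7, 9, 7, 9],
   [7, 1, 7, 1],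
   [7, 0, 7, 0],
   [8, 10, 8, 10],
   [8, 11, 8, 11],
   [8, 9, 8, 9, 8, 9],
   [8, 1, 8, 1],
   [8, 0, 8, 0],
   [10, 11, 10, 11, 10, 11],
   [10, 9, 10, 9],
   [10, 1, 10, 1],
   [10, 0, 10, 0],
   [11, 9, 11, 9],
   [11, 1, 11, 1],
   [11, 0, 11, 0],
   [9, 1, 9, 1],
   [9, 0, 9, 0],
   [1, 0, 1, 0, 1, 0],
   [0, 10, 7, 6, 5, 4, 3, 2, 10, 7, 6, 5, 4, 3, 2, 10, 7, 6, 5, 4, 3, 2, 10, 7, 6, 5, 4, 3, 2, 10, 7, 6, 5, 4, 3, 2, 10, 7, 6, 5, 4, 3, 2, 10, 7, 6, 5, 4, 3, 2, 10, 7, 6, 5, 4, 3, 2, 10, 7, 6, 5, 4, 3, 2],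
   [5, 4, 3, 2, 1, 0, 5, 6, 7, 8, 9, 5, 10, 11, 5, 4, 3, 2, 1, 0, 5, 6, 7, 8, 9, 5, 10, 11, 5, 4, 3, 2, 1, 0, 5, 6, 7, 8, 9, 5, 10, 11, 5, 4, 3, 2, 1, 0, 5, 6, 7, 8, 9, 5, 10, 11, 5, 4, 3, 2, 1, 0, 5, 6, 7, 8, 9, 5, 10, 11, 5, 4, 3, 2, 1, 0, 5, 6, 7, 8, 9, 5, 10, 11, 5, 4, 3, 2, 1, 0, 5, 6, 7, 8, 9, 5, 10, 11, 5, 4, 3, 2, 1, 0, 5, 6, 7, 8, 9, 5, 10, 11, 5, 4, 3, 2, 1, 0, 5, 6, 7, 8, 9, 5, 10, 11, 5, 4, 3, 2, 1, 0, 5, 6, 7, 8, 9, 5, 10, 11, 5, 4, 3, 2, 1, 0, 5, 6, 7, 8, 9, 5, 10, 11, 5, 4, 3, 2, 1, 0, 5, 6, 7, 8, 9, 5, 10, 11, 5, 4, 3, 2, 1, 0, 5, 6, 7, 8, 9, 5, 10, 11, 5, 4, 3, 2, 1, 0, 5, 6, 7, 8, 9, 5, 10, 11, 5, 4, 3, 2, 1, 0, 5, 6, 7, 8, 9, 5, 10, 11, 5, 4, 3, 2, 1, 0, 5, 6, 7, 8, 9, 5, 10, 11, 5, 4, 3, 2, 1, 0, 5, 6, 7, 8, 9, 5, 10, 11]]⟩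

theorem i24R : Impl Cfsg.Agent.Spor.FiC.P24 Cfsg.Agent.Spor.FiC.R2 [[0], [1], [2], [3], [4], [5], [6], [7], [10], [11]] :=
  impl_of_subC (P := Cfsg.Agent.Spor.FiC.P24) (c1 := [(204, 0), (204, 0), (204, 0), (204, 0), (204, 0), (204, 0), (204, 0), (204, 0), (204, 0), (204, 0)]) (c2 := [(0, 0), (3, 0), (6, 0), (9, 0), (12, 0), (18, 0), (21, 0), (27, 0), (30, 0), (33, 0), (36, 0), (39, 0), (42, 0), (48, 0), (51, 0), (57, 0), (60, 0), (63, 0), (66, 0), (69, 0), (75, 0), (78, 0), (84, 0), (87, 0), (90, 0), (93, 0), (99, 0), (102, 0), (108, 0), (111, 0), (114, 0), (120, 0), (123, 0), (129, 0), (132, 0), (138, 0), (141, 0), (147, 0), (150, 0), (168, 0), (174, 0), (177, 0), (183, 0), (186, 0), (195, 0), (198, 0)]) (by decide +kernel)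

theorem sp24 : Conseq P24 [5, 4, 3, 5, 6, 7, 5, 10, 11, 5, 4, 3, 5, 6, 7, 5, 10, 11, 5, 4, 3, 5, 6, 7, 5, 10, 11, 5, 4, 3, 5, 6, 7, 5, 10, 11, 5, 4, 3, 5, 6, 7, 5, 10, 11, 5, 4, 3, 5, 6, 7, 5, 10, 11, 5, 4, 3, 5, 6, 7, 5, 10, 11, 5, 4, 3, 5, 6, 7, 5, 10, 11, 5, 4, 3, 5, 6, 7, 5, 10, 11, 5, 4, 3, 5, 6, 7, 5, 10, 11] :=
  i24R.conseq spR2 (by decide +kernel)

def PL24 : Pres := Cfsg.Agent.Spor.FiC.P24.add [[5, 4, 3, 5, 6, 7, 5, 10, 11, 5, 4, 3, 5, 6, 7, 5, 10, 11, 5, 4, 3, 5, 6, 7, 5, 10, 11, 5, 4, 3, 5, 6, 7, 5, 10, 11, 5, 4, 3, 5, 6, 7, 5, 10, 11, 5, 4, 3, 5, 6, 7, 5, 10, 11, 5, 4, 3, 5, 6, 7, 5, 10, 11, 5, 4, 3, 5, 6, 7, 5, 10, 11, 5, 4, 3, 5, 6, 7, 5, 10, 11, 5, 4, 3, 5, 6, 7, 5, 10, 11]]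

def Q24 : Pres := ⟨[0, 1, 2, 3, 4, 5, 6, 7, 8, 9, 10],
  [[1, 2, 1, 2, 1, 2],
   [1, 3, 1, 3],
   [1, 4, 1, 4],
   [1, 5, 1, 5],
   [1, 6, 1, 6],
   [1, 7, 1, 7],
   [1, 9, 1, 9],
   [1, 10, 1, 10],
   [1, 8, 1, 8],
   [1, 0, 1, 0],
   [2, 3, 2, 3, 2, 3],
   [2, 4, 2, 4],
   [2, 5, 2, 5],
   [2, 6, 2, 6],
   [2, 7, 2, 7],
   [2, 9, 2, 9],
   [2, 10, 2, 10],
   [2, 8, 2, 8],
   [2, 0, 2, 0],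
   [3, 4, 3, 4, 3, 4],
   [3, 5, 3, 5],
   [3, 6, 3, 6],
   [3, 7, 3, 7],
   [3, 9, 3, 9],
   [3, 10, 3, 10],
   [3, 8, 3, 8],
   [3, 0, 3, 0],
   [4, 5, 4, 5, 4, 5],
   [4, 6, 4, 6],
   [4, 7, 4, 7],
   [4, 9, 4, 9, 4, 9],
   [4, 10, 4, 10],
   [4, 8, 4, 8],
   [4, 0, 4, 0],
   [5, 6, 5, 6, 5, 6],
   [5, 7, 5, 7],
   [5, 9, 5, 9],
   [5, 10, 5, 10],
   [5, 8, 5, 8],
   [5, 0, 5, 0],
   [6, 7, 6, 7, 6, 7],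
   [6, 9, 6, 9],
   [6, 10, 6, 10],
   [6, 8, 6, 8],
   [6, 0, 6, 0],
   [7, 9, 7, 9],
   [7, 10, 7, 10],
   [7, 8, 7, 8, 7, 8],
   [7, 0, 7, 0],
   [9, 10, 9, 10, 9, 10],
   [9, 8, 9, 8],
   [9, 0, 9, 0],
   [10, 8, 10, 8],
   [10, 0, 10, 0],
   [8, 0, 8, 0],
   [0, 9, 6, 5, 4, 3, 2, 1, 9, 6, 5, 4, 3, 2, 1, 9, 6, 5, 4, 3, 2, 1, 9, 6, 5, 4, 3, 2, 1, 9, 6, 5, 4, 3, 2, 1, 9, 6, 5, 4, 3, 2, 1, 9, 6, 5, 4, 3, 2, 1, 9, 6, 5, 4, 3, 2, 1, 9, 6, 5, 4, 3, 2, 1],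
   [4, 3, 2, 4, 5, 6, 4, 9, 10, 4, 3, 2, 4, 5, 6, 4, 9, 10, 4, 3, 2, 4, 5, 6, 4, 9, 10, 4, 3, 2, 4, 5, 6, 4, 9, 10, 4, 3, 2, 4, 5, 6, 4, 9, 10, 4, 3, 2, 4, 5, 6, 4, 9, 10, 4, 3, 2, 4, 5, 6, 4, 9, 10, 4, 3, 2, 4, 5, 6, 4, 9, 10, 4, 3, 2, 4, 5, 6, 4, 9, 10, 4, 3, 2, 4, 5, 6, 4, 9, 10]]⟩

theorem i24Q : Impl Cfsg.Agent.Spor.FiC.P24 Cfsg.Agent.Spor.FiC.Q24 [[0], [2], [3], [4], [5], [6], [7], [8], [9], [10], [11]] :=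
  Impl.of_add (impl_of_subC (P := Cfsg.Agent.Spor.FiC.PL24) (c1 := [(207, 0), (207, 0), (207, 0), (207, 0), (207, 0), (207, 0), (207, 0), (207, 0), (207, 0), (207, 0), (207, 0)]) (c2 := [(0, 0), (3, 0), (6, 0), (9, 0), (12, 0), (15, 0), (18, 0), (21, 0), (24, 0), (30, 0), (33, 0), (36, 0), (39, 0), (42, 0), (45, 0), (48, 0), (51, 0), (54, 0), (60, 0), (63, 0), (66, 0), (69, 0), (72, 0), (75, 0), (78, 0), (81, 0), (87, 0), (90, 0), (93, 0), (96, 0), (99, 0), (102, 0), (105, 0), (111, 0), (114, 0), (117, 0), (120, 0), (123, 0), (126, 0), (132, 0), (135, 0), (138, 0), (141, 0), (144, 0), (150, 0), (153, 0), (156, 0), (159, 0), (165, 0), (168, 0), (171, 0), (177, 0), (180, 0), (186, 0), (192, 0), (198, 0), (204, 0)]) (by decide +kernel)) ⟨sp24, trivial⟩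

def Ql : Pres := Cfsg.Agent.Spor.FiC.Q24.add [[0]]

theorem e7Ql : Conseq Ql [1, 2, 3, 4, 5, 6, 9, 1, 2, 3, 4, 5, 6, 9, 1, 2, 3, 4, 5, 6, 9, 1, 2, 3, 4, 5, 6, 9, 1, 2, 3, 4, 5, 6, 9, 1, 2, 3, 4, 5, 6, 9, 1, 2, 3, 4, 5, 6, 9, 1, 2, 3, 4, 5, 6, 9, 1, 2, 3, 4, 5, 6, 9] :=
  conseq_prod [([], invW Ql.I [0, 9, 6, 5, 4, 3, 2, 1, 9, 6, 5, 4, 3, 2, 1, 9, 6, 5, 4, 3, 2, 1, 9, 6, 5, 4, 3, 2, 1, 9, 6, 5, 4, 3, 2, 1, 9, 6, 5, 4, 3, 2, 1, 9, 6, 5, 4, 3, 2, 1, 9, 6, 5, 4, 3, 2, 1, 9, 6, 5, 4, 3, 2, 1]), ([], [0])] ⟨(conseq_rel (P := Ql) (W := [0, 9, 6, 5, 4, 3, 2, 1, 9, 6, 5, 4, 3, 2, 1, 9, 6, 5, 4, 3, 2, 1, 9, 6, 5, 4, 3, 2, 1, 9, 6, 5, 4, 3, 2, 1, 9, 6, 5, 4, 3, 2, 1, 9, 6, 5, 4, 3, 2, 1, 9, 6, 5, 4, 3, 2, 1, 9, 6, 5, 4, 3, 2, 1]) (by decide +kernel)).inv, conseq_rel (by decide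 +kernel), trivial⟩ (by decide +kernel)

def Qm : Pres := Cfsg.Agent.Spor.FiC.Ql.add [[1, 2, 3, 4, 5, 6, 9, 1, 2, 3, 4, 5, 6, 9, 1, 2, 3, 4, 5, 6, 9, 1, 2, 3, 4, 5, 6, 9, 1, 2, 3, 4, 5, 6, 9, 1, 2, 3, 4, 5, 6, 9, 1, 2, 3, 4, 5, 6, 9, 1, 2, 3, 4, 5, 6, 9, 1, 2, 3, 4, 5, 6, 9]]

theorem iQl : Impl Cfsg.Agent.Spor.FiC.Ql Cfsg.Agent.Spor.FiC.P23 [[1], [2], [3], [4], [5], [6], [7], [8], [9], [10]] :=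
  Impl.of_add (impl_of_subC (P := Cfsg.Agent.Spor.FiC.Qm) (c1 := [(177, 0), (177, 0), (177, 0), (177, 0), (177, 0), (177, 0), (177, 0), (177, 0), (177, 0), (177, 0)]) (c2 := [(0, 0), (3, 0), (6, 0), (9, 0), (12, 0), (15, 0), (18, 0), (21, 0), (24, 0), (30, 0), (33, 0), (36, 0), (39, 0), (42, 0), (45, 0), (48, 0), (51, 0), (57, 0), (60, 0), (63, 0), (66, 0), (69, 0), (72, 0), (75, 0), (81, 0), (84, 0), (87, 0), (90, 0), (93, 0), (96, 0), (102, 0), (105, 0), (108, 0), (111, 0), (114, 0), (120, 0), (123, 0), (126, 0), (129, 0), (135, 0), (138, 0), (141, 0), (147, 0), (150, 0), (156, 0), (168, 0), (174, 0)]) (by decide +kernel)) ⟨e7Ql, trivial⟩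

theorem bQl : Bound Ql 4089470473293004800 :=
  M23.bound.of_sub iQl ⟨Conseq.inSub (conseq_rel (P := Ql) (W := [0]) (by decide +kernel)) _, inSub_of_mem (by decide), inSub_of_mem (by decide), inSub_of_mem (by decide), inSub_of_mem (by decide), inSub_of_mem (by decide), inSub_of_mem (by decide), inSub_of_mem (by decide), inSub_of_mem (by decide), inSub_of_mem (by decide), inSub_of_mem (by decide), trivial⟩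

theorem bQ24 : Bound Q24 8178940946586009600 :=
  Bound.central (z := [0]) (m := 2) bQl (by decide) (conseq_deriv (171, 0) (by decide +kernel)) ⟨conseq_deriv (171, 0) (by decide +kernel), conseq_deriv (27, 1) (by decide +kernel), conseq_deriv (54, 1) (by decide +kernel), conseq_deriv (78, 1) (by decide +kernel), conseq_deriv (99, 1) (by decide +kernel), conseq_deriv (117, 1) (by decide +kernel), conseq_deriv (132, 1) (by decide +kernel), conseq_deriv (144, 1) (by decide +kernel), conseq_deriv (162, 1) (by decide +kernel), conseq_deriv (153, 1) (by decide +kernel), conseq_deriv (159, 1) (by decide +kernel), trivial⟩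

end Cfsg.Agent.Spor.FiC
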