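import Cfsg.Agent.Spor.Fi.Net23

set_option autoImplicit false
set_option Elab.async false
set_option maxRecDepth 100000

namespace Cfsg.Agent.Spor.FiC.M23

open Cfsg.Agent.Comp.BN

theorem sat_inv_0 : invC Cfsg.Agent.Spor.FiC.M23.act Cfsg.Agent.Spor.FiC.P23.I 32768 15 Cfsg.Agent.Spor.FiC.P23.inv.length [0, 1, 2, 3, 4, 5, 6, 7, 8, 9, 10, 11, 12, 13, 14] = true :=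
  by decide +kernel

theorem sat_inv : ∀ k, Cfsg.Agent.Spor.FiC.M23.π (Cfsg.Agent.Spor.FiC.P23.I k) * Cfsg.Agent.Spor.FiC.M23.π k = 1 :=
  inv_of_checks Cfsg.Agent.Spor.FiC.M23.spec (K := 15) (by decide) Cfsg.Agent.Spor.FiC.M23.out [[0, 1, 2, 3, 4, 5, 6, 7, 8, 9, 10, 11, 12, 13, 14]] (by decide) ⟨sat_inv_0, trivial⟩

theorem sat_rel_0_0 : relsC Cfsg.Agent.Spor.FiC.M23.act Cfsg.Agent.Spor.FiC.P23.I 32768 15 [[0, 1, 0, 1, 0, 1], [0, 2, 0, 2], [0, 3, 0, 3], [0, 4, 0, 4], [0, 5, 0, 5], [0, 6, 0, 6], [0, 8, 0, 8], [0, 9, 0, 9], [0, 7, 0, 7], [1, 2, 1, 2, 1, 2], [1, 3, 1, 3], [1, 4, 1, 4], [1, 5, 1, 5], [1, 6, 1, 6], [1, 8, 1, 8], [1, 9, 1, 9], [1, 7, 1, 7], [2, 3, 2, 3, 2, 3], [2,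 4, 2, 4], [2, 5, 2, 5], [2, 6, 2, 6], [2, 8, 2, 8], [2, 9, 2, 9], [2, 7, 2, 7], [3, 4, 3, 4, 3, 4], [3, 5, 3, 5], [3, 6, 3, 6], [3, 8, 3, 8, 3, 8], [3, 9, 3, 9], [3, 7, 3, 7], [4, 5, 4, 5, 4, 5], [4, 6, 4, 6], [4, 8, 4, 8], [4, 9, 4, 9], [4, 7, 4, 7], [5, 6, 5, 6, 5, 6], [5, 8, 5, 8], [5, 9, 5, 9], [5, 7, 5, 7], [6, 8, 6, 8], [6, 9, 6, 9], [6, 7, 6, 7, 6, 7], [8, 9, 8, 9, 8, 9], [8, 7, 8, 7], [9, 7, 9, 7], [3, 2, 1, 3, 4, 5, 3, 8, 9, 3, 2, 1, 3, 4, 5, 3, 8, 9, 3, 2, 1, 3, 4, 5, 3, 8, 9, 3, 2, 1, 3, 4, 5, 3, 8, 9, 3, 2, 1, 3, 4, 5, 3, 8, 9, 3, 2, 1, 3, 4, 5, 3, 8, 9, 3, 2, 1, 3, 4, 5, 3, 8, 9, 3, 2, 1, 3, 4, 5, 3, 8, 9, 3, 2, 1, 3, 4, 5, 3, 8, 9, 3, 2, 1, 3, 4, 5, 3, 8, 9], [0,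 1, 2, 3, 4, 5, 8, 0, 1, 2, 3, 4, 5, 8, 0, 1, 2, 3, 4, 5, 8, 0, 1, 2, 3, 4, 5, 8, 0, 1, 2, 3, 4, 5, 8, 0, 1, 2, 3, 4, 5, 8, 0, 1, 2, 3, 4, 5, 8, 0, 1, 2, 3, 4, 5, 8, 0, 1, 2, 3, 4, 5, 8]] [0, 1, 2, 3, 4] = true :=
  by decide +kernel

theorem sat_rel_0_1 : relsC Cfsg.Agent.Spor.FiC.M23.act Cfsg.Agent.Spor.FiC.P23.I 32768 15 [[0, 1, 0, 1, 0, 1], [0, 2, 0, 2], [0, 3, 0, 3], [0, 4, 0, 4], [0, 5, 0, 5], [0, 6, 0, 6], [0, 8, 0, 8], [0, 9, 0, 9], [0, 7, 0, 7], [1, 2, 1, 2, 1, 2], [1, 3, 1, 3], [1, 4, 1, 4], [1, 5, 1, 5], [1, 6, 1, 6], [1, 8, 1, 8], [1, 9, 1, 9], [1, 7, 1, 7], [2, 3, 2, 3, 2, 3], [2, 4, 2, 4], [2, 5, 2, 5], [2, 6, 2, 6], [2, 8, 2, 8], [2, 9, 2, 9], [2, 7, 2, 7], [3,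 4, 3, 4, 3, 4], [3, 5, 3, 5], [3, 6, 3, 6], [3, 8, 3, 8, 3, 8], [3, 9, 3, 9], [3, 7, 3, 7], [4, 5, 4, 5, 4, 5], [4, 6, 4, 6], [4, 8, 4, 8], [4, 9, 4, 9], [4, 7, 4, 7], [5, 6, 5, 6, 5, 6], [5, 8, 5, 8], [5, 9, 5, 9], [5, 7, 5, 7], [6, 8, 6, 8], [6, 9, 6, 9], [6, 7, 6, 7, 6, 7], [8, 9, 8, 9, 8, 9], [8, 7, 8, 7], [9, 7, 9, 7], [3, 2, 1, 3, 4, 5, 3, 8, 9, 3, 2, 1, 3, 4, 5, 3, 8, 9, 3, 2, 1, 3, 4, 5, 3, 8, 9, 3, 2, 1, 3, 4, 5, 3, 8, 9, 3, 2, 1, 3, 4, 5, 3, 8, 9, 3, 2, 1, 3, 4, 5, 3, 8, 9, 3, 2, 1, 3, 4, 5, 3, 8, 9, 3, 2, 1, 3, 4, 5, 3, 8, 9, 3, 2, 1, 3, 4, 5, 3, 8, 9, 3, 2, 1, 3, 4, 5, 3, 8, 9], [0, 1, 2, 3, 4, 5, 8, 0, 1, 2, 3, 4, 5, 8, 0, 1, 2, 3, 4, 5, 8, 0, 1, 2, 3, 4, 5, 8, 0,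 1, 2, 3, 4, 5, 8, 0, 1, 2, 3, 4, 5, 8, 0, 1, 2, 3, 4, 5, 8, 0, 1, 2, 3, 4, 5, 8, 0, 1, 2, 3, 4, 5, 8]] [5, 6, 7, 8, 9] = true :=
  by decide +kernel

theorem sat_rel_0_2 : relsC Cfsg.Agent.Spor.FiC.M23.act Cfsg.Agent.Spor.FiC.P23.I 32768 15 [[0, 1, 0, 1, 0, 1], [0, 2, 0, 2], [0, 3, 0, 3], [0, 4, 0, 4], [0, 5, 0, 5], [0, 6, 0, 6], [0, 8, 0, 8], [0, 9, 0, 9], [0, 7, 0, 7], [1, 2, 1, 2, 1, 2], [1, 3, 1, 3], [1, 4, 1, 4], [1, 5, 1, 5], [1, 6, 1, 6], [1, 8, 1, 8], [1, 9, 1, 9], [1, 7, 1, 7], [2, 3, 2, 3, 2, 3], [2, 4, 2, 4], [2, 5, 2, 5], [2, 6, 2, 6], [2, 8, 2, 8], [2, 9, 2, 9], [2, 7, 2, 7], [3, 4, 3, 4, 3, 4], [3, 5, 3, 5], [3, 6, 3, 6], [3, 8, 3, 8, 3, 8], [3, 9, 3, 9], [3, 7,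 3, 7], [4, 5, 4, 5, 4, 5], [4, 6, 4, 6], [4, 8, 4, 8], [4, 9, 4, 9], [4, 7, 4, 7], [5, 6, 5, 6, 5, 6], [5, 8, 5, 8], [5, 9, 5, 9], [5, 7, 5, 7], [6, 8, 6, 8], [6, 9, 6, 9], [6, 7, 6, 7, 6, 7], [8, 9, 8, 9, 8, 9], [8, 7, 8, 7], [9, 7, 9, 7], [3, 2, 1, 3, 4, 5, 3, 8, 9, 3, 2, 1, 3, 4, 5, 3, 8, 9, 3, 2, 1, 3, 4, 5, 3, 8, 9, 3, 2, 1, 3, 4, 5, 3, 8, 9, 3, 2, 1, 3, 4, 5, 3, 8, 9, 3, 2, 1, 3, 4, 5, 3, 8, 9, 3, 2, 1, 3, 4, 5, 3, 8, 9, 3, 2, 1, 3, 4, 5, 3, 8, 9, 3, 2, 1, 3, 4, 5, 3, 8, 9, 3, 2, 1, 3, 4, 5, 3, 8, 9], [0, 1, 2, 3, 4, 5, 8, 0, 1, 2, 3, 4, 5, 8, 0, 1, 2, 3, 4, 5, 8, 0, 1, 2, 3, 4, 5, 8, 0, 1, 2, 3, 4, 5, 8, 0, 1, 2, 3, 4, 5, 8, 0, 1, 2, 3, 4, 5, 8, 0, 1, 2, 3, 4, 5, 8, 0,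 1, 2, 3, 4, 5, 8]] [10, 11, 12, 13, 14] = true :=
  by decide +kernel

theorem sat_rel_0 : ∀ r ∈ ([[0, 1, 0, 1, 0, 1], [0, 2, 0, 2], [0, 3, 0, 3], [0, 4, 0, 4], [0, 5, 0, 5], [0, 6, 0, 6], [0, 8, 0, 8], [0, 9, 0, 9], [0, 7, 0, 7], [1, 2, 1, 2, 1, 2], [1, 3, 1, 3], [1, 4, 1, 4], [1, 5, 1, 5], [1, 6, 1, 6], [1, 8, 1, 8], [1, 9, 1, 9], [1, 7, 1, 7], [2, 3, 2, 3, 2, 3], [2, 4, 2, 4], [2, 5, 2, 5], [2, 6, 2, 6], [2, 8, 2, 8], [2, 9, 2, 9], [2, 7, 2, 7], [3, 4, 3, 4, 3, 4], [3, 5, 3, 5], [3, 6, 3, 6], [3, 8, 3, 8, 3, 8], [3, 9, 3, 9], [3, 7, 3, 7], [4, 5, 4, 5, 4, 5], [4, 6, 4, 6], [4, 8, 4, 8], [4, 9, 4, 9], [4, 7, 4, 7], [5, 6, 5, 6, 5, 6], [5, 8, 5, 8], [5, 9, 5, 9], [5, 7, 5, 7],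 [6, 8, 6, 8], [6, 9, 6, 9], [6, 7, 6, 7, 6, 7], [8, 9, 8, 9, 8, 9], [8, 7, 8, 7], [9, 7, 9, 7], [3, 2, 1, 3, 4, 5, 3, 8, 9, 3, 2, 1, 3, 4, 5, 3, 8, 9, 3, 2, 1, 3, 4, 5, 3, 8, 9, 3, 2, 1, 3, 4, 5, 3, 8, 9, 3, 2, 1, 3, 4, 5, 3, 8, 9, 3, 2, 1, 3, 4, 5, 3, 8, 9, 3, 2, 1, 3, 4, 5, 3, 8, 9, 3, 2, 1, 3, 4, 5, 3, 8, 9, 3, 2, 1, 3, 4, 5, 3, 8, 9, 3, 2, 1, 3, 4, 5, 3, 8, 9], [0, 1, 2, 3, 4, 5, 8, 0, 1, 2, 3, 4, 5, 8, 0, 1, 2, 3, 4, 5, 8, 0, 1, 2, 3, 4, 5, 8, 0, 1, 2, 3, 4, 5, 8, 0, 1, 2, 3, 4, 5, 8, 0, 1, 2, 3, 4, 5, 8, 0, 1, 2, 3, 4, 5, 8, 0, 1, 2, 3, 4, 5, 8]] : List (List ℕ)), ev Cfsg.Agent.Spor.FiC.M23.π r = 1 :=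
  rels_of_checks Cfsg.Agent.Spor.FiC.M23.spec (K := 15) (by decide) sat_inv _ [[0, 1, 2, 3, 4], [5, 6, 7, 8, 9], [10, 11, 12, 13, 14]] (by decide) ⟨sat_rel_0_0, sat_rel_0_1, sat_rel_0_2, trivial⟩

theorem sat_rel : ∀ r ∈ ([[0, 1, 0, 1, 0, 1], [0, 2, 0, 2], [0, 3, 0, 3], [0, 4, 0, 4], [0, 5, 0, 5], [0, 6, 0, 6], [0, 8, 0, 8], [0, 9, 0, 9], [0, 7, 0, 7], [1, 2, 1, 2, 1, 2], [1, 3, 1, 3], [1, 4, 1, 4], [1, 5, 1, 5], [1, 6, 1, 6], [1, 8, 1, 8], [1, 9, 1, 9], [1, 7, 1, 7], [2, 3, 2, 3, 2, 3], [2, 4, 2, 4], [2, 5, 2, 5], [2, 6, 2, 6], [2, 8, 2, 8], [2, 9, 2, 9], [2, 7, 2, 7], [3, 4, 3, 4, 3, 4], [3, 5, 3, 5], [3, 6, 3, 6], [3, 8, 3, 8, 3, 8], [3, 9, 3, 9], [3, 7, 3, 7], [4, 5, 4, 5,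 4, 5], [4, 6, 4, 6], [4, 8, 4, 8], [4, 9, 4, 9], [4, 7, 4, 7], [5, 6, 5, 6, 5, 6], [5, 8, 5, 8], [5, 9, 5, 9], [5, 7, 5, 7], [6, 8, 6, 8], [6, 9, 6, 9], [6, 7, 6, 7, 6, 7], [8, 9, 8, 9, 8, 9], [8, 7, 8, 7], [9, 7, 9, 7], [3, 2, 1, 3, 4, 5, 3, 8, 9, 3, 2, 1, 3, 4, 5, 3, 8, 9, 3, 2, 1, 3, 4, 5, 3, 8, 9, 3, 2, 1, 3, 4, 5, 3, 8, 9, 3, 2, 1, 3, 4, 5, 3, 8, 9, 3, 2, 1, 3, 4, 5, 3, 8, 9, 3, 2, 1, 3, 4, 5, 3, 8, 9, 3, 2, 1, 3, 4, 5, 3, 8, 9, 3, 2, 1, 3, 4, 5, 3, 8, 9, 3, 2, 1, 3, 4, 5, 3, 8, 9], [0, 1, 2, 3, 4, 5, 8, 0, 1, 2, 3, 4, 5, 8, 0, 1, 2, 3, 4, 5, 8, 0, 1, 2, 3, 4, 5, 8, 0, 1, 2, 3, 4, 5, 8, 0, 1, 2, 3, 4, 5, 8, 0, 1, 2, 3, 4, 5, 8, 0, 1, 2, 3, 4, 5, 8, 0, 1, 2, 3, 4, 5, 8]]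 : List (List ℕ)), ev Cfsg.Agent.Spor.FiC.M23.π r = 1 :=
  rels_join [[[0, 1, 0, 1, 0, 1], [0, 2, 0, 2], [0, 3, 0, 3], [0, 4, 0, 4], [0, 5, 0, 5], [0, 6, 0, 6], [0, 8, 0, 8], [0, 9, 0, 9], [0, 7, 0, 7], [1, 2, 1, 2, 1, 2], [1, 3, 1, 3], [1, 4, 1, 4], [1, 5, 1, 5], [1, 6, 1, 6], [1, 8, 1, 8], [1, 9, 1, 9], [1, 7, 1, 7], [2, 3, 2, 3, 2, 3], [2, 4, 2, 4], [2, 5, 2, 5], [2, 6, 2, 6], [2, 8, 2, 8], [2, 9, 2, 9], [2, 7, 2, 7], [3, 4, 3, 4, 3, 4], [3, 5, 3, 5], [3, 6, 3, 6], [3, 8, 3, 8, 3, 8], [3, 9, 3, 9], [3, 7, 3, 7], [4, 5, 4, 5, 4, 5], [4, 6, 4, 6], [4, 8, 4, 8], [4, 9, 4, 9], [4, 7, 4, 7], [5, 6, 5, 6, 5, 6], [5, 8, 5, 8], [5, 9, 5, 9], [5, 7, 5, 7], [6, 8, 6, 8], [6, 9, 6, 9],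 [6, 7, 6, 7, 6, 7], [8, 9, 8, 9, 8, 9], [8, 7, 8, 7], [9, 7, 9, 7], [3, 2, 1, 3, 4, 5, 3, 8, 9, 3, 2, 1, 3, 4, 5, 3, 8, 9, 3, 2, 1, 3, 4, 5, 3, 8, 9, 3, 2, 1, 3, 4, 5, 3, 8, 9, 3, 2, 1, 3, 4, 5, 3, 8, 9, 3, 2, 1, 3, 4, 5, 3, 8, 9, 3, 2, 1, 3, 4, 5, 3, 8, 9, 3, 2, 1, 3, 4, 5, 3, 8, 9, 3, 2, 1, 3, 4, 5, 3, 8, 9, 3, 2, 1, 3, 4, 5, 3, 8, 9], [0, 1, 2, 3, 4, 5, 8, 0, 1, 2, 3, 4, 5, 8, 0, 1, 2, 3, 4, 5, 8, 0, 1, 2, 3, 4, 5, 8, 0, 1, 2, 3, 4, 5, 8, 0, 1, 2, 3, 4, 5, 8, 0, 1, 2, 3, 4, 5, 8, 0, 1, 2, 3, 4, 5, 8, 0, 1, 2, 3, 4, 5, 8]]] ⟨sat_rel_0, trivial⟩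

theorem sat : Sat Cfsg.Agent.Spor.FiC.P23 Cfsg.Agent.Spor.FiC.M23.π :=
  ⟨Cfsg.Agent.Spor.FiC.M23.out, sat_inv, sat_rel⟩

theorem satL : Sat Cfsg.Agent.Spor.FiC.PL23 Cfsg.Agent.Spor.FiC.M23.π :=
  sat.addC ⟨Cfsg.Agent.Spor.FiC.lem23, trivial⟩

end Cfsg.Agent.Spor.FiC.M23
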