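import Cfsg.Agent.Spor.Fi.Net24

set_option autoImplicit false
set_option Elab.async false
set_option maxRecDepth 100000

namespace Cfsg.Agent.Spor.FiC.M24

open Cfsg.Agent.Comp.BN

theorem sat_rel_0_0 : relsC Cfsg.Agent.Spor.FiC.M24.act Cfsg.Agent.Spor.FiC.P24.I 327680 19 [[2, 3, 2, 3, 2, 3], [2, 4, 2, 4], [2, 5, 2, 5], [2, 6, 2, 6], [2, 7, 2, 7], [2, 8, 2, 8], [2, 10, 2, 10], [2, 11, 2, 11], [2, 9, 2, 9], [2, 1, 2, 1, 2, 1], [2, 0, 2, 0], [3, 4, 3, 4, 3, 4], [3, 5, 3, 5], [3, 6, 3, 6], [3, 7, 3, 7], [3, 8, 3, 8], [3, 10, 3, 10], [3, 11, 3, 11], [3, 9, 3, 9], [3, 1, 3, 1], [3, 0, 3, 0], [4, 5, 4, 5, 4, 5], [4, 6, 4, 6], [4, 7, 4, 7], [4, 8, 4, 8], [4, 10, 4, 10], [4, 11, 4, 11], [4, 9, 4, 9], [4, 1, 4, 1], [4, 0, 4, 0], [5, 6, 5,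 6, 5, 6], [5, 7, 5, 7], [5, 8, 5, 8], [5, 10, 5, 10, 5, 10], [5, 11, 5, 11], [5, 9, 5, 9], [5, 1, 5, 1], [5, 0, 5, 0], [6, 7, 6, 7, 6, 7], [6, 8, 6, 8], [6, 10, 6, 10], [6, 11, 6, 11], [6, 9, 6, 9], [6, 1, 6, 1], [6, 0, 6, 0], [7, 8, 7, 8, 7, 8], [7, 10, 7, 10], [7, 11, 7, 11], [7, 9, 7, 9], [7, 1, 7, 1], [7, 0, 7, 0]] [0] = true :=
  by decide +kernel

theorem sat_rel_0_1 : relsC Cfsg.Agent.Spor.FiC.M24.act Cfsg.Agent.Spor.FiC.P24.I 327680 19 [[2, 3, 2, 3, 2, 3], [2, 4, 2, 4], [2, 5, 2, 5], [2, 6, 2, 6], [2, 7, 2, 7], [2, 8, 2, 8], [2, 10, 2, 10], [2, 11, 2, 11], [2, 9, 2, 9], [2, 1, 2, 1, 2, 1], [2, 0, 2, 0], [3, 4, 3, 4, 3, 4], [3, 5, 3, 5], [3, 6, 3, 6], [3, 7, 3, 7], [3, 8, 3, 8], [3, 10, 3, 10], [3, 11, 3, 11], [3, 9, 3, 9],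 [3, 1, 3, 1], [3, 0, 3, 0], [4, 5, 4, 5, 4, 5], [4, 6, 4, 6], [4, 7, 4, 7], [4, 8, 4, 8], [4, 10, 4, 10], [4, 11, 4, 11], [4, 9, 4, 9], [4, 1, 4, 1], [4, 0, 4, 0], [5, 6, 5, 6, 5, 6], [5, 7, 5, 7], [5, 8, 5, 8], [5, 10, 5, 10, 5, 10], [5, 11, 5, 11], [5, 9, 5, 9], [5, 1, 5, 1], [5, 0, 5, 0], [6, 7, 6, 7, 6, 7], [6, 8, 6, 8], [6, 10, 6, 10], [6, 11, 6, 11], [6, 9, 6, 9], [6, 1, 6, 1], [6, 0, 6, 0], [7, 8, 7, 8, 7, 8], [7, 10, 7, 10], [7, 11, 7, 11], [7, 9, 7, 9], [7, 1, 7, 1], [7, 0, 7, 0]] [1] = true :=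
  by decide +kernel

theorem sat_rel_0_2 : relsC Cfsg.Agent.Spor.FiC.M24.act Cfsg.Agent.Spor.FiC.P24.I 327680 19 [[2, 3, 2, 3, 2, 3], [2, 4, 2, 4], [2, 5, 2, 5], [2, 6, 2, 6], [2, 7, 2, 7], [2, 8, 2, 8], [2, 10, 2, 10], [2, 11, 2, 11], [2, 9, 2, 9], [2, 1, 2, 1, 2, 1], [2, 0, 2, 0], [3, 4, 3, 4, 3, 4], [3, 5, 3, 5], [3, 6, 3, 6], [3, 7, 3, 7], [3, 8, 3, 8], [3, 10, 3, 10], [3, 11, 3, 11], [3, 9, 3, 9], [3, 1, 3, 1], [3, 0, 3, 0], [4, 5, 4, 5, 4, 5], [4, 6, 4, 6], [4, 7, 4, 7], [4, 8, 4, 8], [4, 10, 4, 10], [4, 11, 4, 11], [4, 9, 4, 9], [4, 1, 4, 1], [4, 0, 4, 0], [5, 6, 5, 6, 5, 6], [5, 7, 5, 7], [5, 8, 5, 8], [5, 10, 5, 10, 5, 10], [5, 11, 5, 11], [5, 9, 5, 9], [5, 1, 5, 1], [5, 0, 5, 0], [6, 7, 6, 7, 6, 7], [6, 8, 6, 8], [6, 10,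 6, 10], [6, 11, 6, 11], [6, 9, 6, 9], [6, 1, 6, 1], [6, 0, 6, 0], [7, 8, 7, 8, 7, 8], [7, 10, 7, 10], [7, 11, 7, 11], [7, 9, 7, 9], [7, 1, 7, 1], [7, 0, 7, 0]] [2] = true :=
  by decide +kernel

theorem sat_rel_0_3 : relsC Cfsg.Agent.Spor.FiC.M24.act Cfsg.Agent.Spor.FiC.P24.I 327680 19 [[2, 3, 2, 3, 2, 3], [2, 4, 2, 4], [2, 5, 2, 5], [2, 6, 2, 6], [2, 7, 2, 7], [2, 8, 2, 8], [2, 10, 2, 10], [2, 11, 2, 11], [2, 9, 2, 9], [2, 1, 2, 1, 2, 1], [2, 0, 2, 0], [3, 4, 3, 4, 3, 4], [3, 5, 3, 5], [3, 6, 3, 6], [3, 7, 3, 7], [3, 8, 3, 8], [3, 10, 3, 10], [3, 11, 3, 11], [3, 9, 3, 9], [3, 1, 3, 1], [3, 0, 3, 0], [4, 5, 4, 5, 4, 5], [4, 6, 4, 6], [4, 7, 4, 7], [4, 8, 4, 8], [4, 10, 4, 10], [4, 11, 4, 11], [4, 9, 4, 9], [4, 1, 4, 1], [4, 0, 4,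 0], [5, 6, 5, 6, 5, 6], [5, 7, 5, 7], [5, 8, 5, 8], [5, 10, 5, 10, 5, 10], [5, 11, 5, 11], [5, 9, 5, 9], [5, 1, 5, 1], [5, 0, 5, 0], [6, 7, 6, 7, 6, 7], [6, 8, 6, 8], [6, 10, 6, 10], [6, 11, 6, 11], [6, 9, 6, 9], [6, 1, 6, 1], [6, 0, 6, 0], [7, 8, 7, 8, 7, 8], [7, 10, 7, 10], [7, 11, 7, 11], [7, 9, 7, 9], [7, 1, 7, 1], [7, 0, 7, 0]] [3] = true :=
  by decide +kernel

theorem sat_rel_0_4 : relsC Cfsg.Agent.Spor.FiC.M24.act Cfsg.Agent.Spor.FiC.P24.I 327680 19 [[2, 3, 2, 3, 2, 3], [2, 4, 2, 4], [2, 5, 2, 5], [2, 6, 2, 6], [2, 7, 2, 7], [2, 8, 2, 8], [2, 10, 2, 10], [2, 11, 2, 11], [2, 9, 2, 9], [2, 1, 2, 1, 2, 1], [2, 0, 2, 0], [3, 4, 3, 4, 3, 4], [3, 5, 3, 5], [3, 6, 3, 6], [3, 7, 3, 7], [3, 8, 3, 8], [3, 10, 3, 10], [3, 11, 3, 11],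 [3, 9, 3, 9], [3, 1, 3, 1], [3, 0, 3, 0], [4, 5, 4, 5, 4, 5], [4, 6, 4, 6], [4, 7, 4, 7], [4, 8, 4, 8], [4, 10, 4, 10], [4, 11, 4, 11], [4, 9, 4, 9], [4, 1, 4, 1], [4, 0, 4, 0], [5, 6, 5, 6, 5, 6], [5, 7, 5, 7], [5, 8, 5, 8], [5, 10, 5, 10, 5, 10], [5, 11, 5, 11], [5, 9, 5, 9], [5, 1, 5, 1], [5, 0, 5, 0], [6, 7, 6, 7, 6, 7], [6, 8, 6, 8], [6, 10, 6, 10], [6, 11, 6, 11], [6, 9, 6, 9], [6, 1, 6, 1], [6, 0, 6, 0], [7, 8, 7, 8, 7, 8], [7, 10, 7, 10], [7, 11, 7, 11], [7, 9, 7, 9], [7, 1, 7, 1], [7, 0, 7, 0]] [4] = true :=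
  by decide +kernel

theorem sat_rel_0_5 : relsC Cfsg.Agent.Spor.FiC.M24.act Cfsg.Agent.Spor.FiC.P24.I 327680 19 [[2, 3, 2, 3, 2, 3], [2, 4, 2, 4], [2, 5, 2, 5], [2, 6, 2, 6], [2, 7, 2, 7], [2, 8, 2, 8], [2, 10, 2, 10], [2, 11, 2, 11], [2, 9, 2, 9], [2, 1, 2, 1, 2, 1], [2, 0, 2, 0], [3, 4, 3, 4, 3, 4], [3, 5, 3, 5], [3, 6, 3, 6], [3, 7, 3, 7], [3, 8, 3, 8], [3, 10, 3, 10], [3, 11, 3, 11], [3, 9, 3, 9], [3, 1, 3, 1], [3, 0, 3, 0], [4, 5, 4, 5, 4, 5], [4, 6, 4, 6], [4, 7, 4, 7], [4, 8, 4, 8], [4, 10, 4, 10], [4, 11, 4, 11], [4, 9, 4, 9], [4, 1, 4, 1], [4, 0, 4, 0], [5, 6, 5, 6, 5, 6], [5, 7, 5, 7], [5, 8, 5, 8], [5, 10, 5, 10, 5, 10], [5, 11, 5, 11], [5, 9, 5, 9], [5, 1, 5, 1], [5, 0, 5, 0], [6, 7, 6, 7, 6, 7], [6, 8, 6, 8], [6, 10,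 6, 10], [6, 11, 6, 11], [6, 9, 6, 9], [6, 1, 6, 1], [6, 0, 6, 0], [7, 8, 7, 8, 7, 8], [7, 10, 7, 10], [7, 11, 7, 11], [7, 9, 7, 9], [7, 1, 7, 1], [7, 0, 7, 0]] [5] = true :=
  by decide +kernel

theorem sat_rel_0_6 : relsC Cfsg.Agent.Spor.FiC.M24.act Cfsg.Agent.Spor.FiC.P24.I 327680 19 [[2, 3, 2, 3, 2, 3], [2, 4, 2, 4], [2, 5, 2, 5], [2, 6, 2, 6], [2, 7, 2, 7], [2, 8, 2, 8], [2, 10, 2, 10], [2, 11, 2, 11], [2, 9, 2, 9], [2, 1, 2, 1, 2, 1], [2, 0, 2, 0], [3, 4, 3, 4, 3, 4], [3, 5, 3, 5], [3, 6, 3, 6], [3, 7, 3, 7], [3, 8, 3, 8], [3, 10, 3, 10], [3, 11, 3, 11], [3, 9, 3, 9], [3, 1, 3, 1], [3, 0, 3, 0], [4, 5, 4, 5, 4, 5], [4, 6, 4, 6], [4, 7, 4, 7], [4, 8, 4, 8], [4, 10, 4, 10], [4, 11, 4, 11], [4, 9, 4, 9], [4, 1, 4, 1], [4, 0, 4,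 0], [5, 6, 5, 6, 5, 6], [5, 7, 5, 7], [5, 8, 5, 8], [5, 10, 5, 10, 5, 10], [5, 11, 5, 11], [5, 9, 5, 9], [5, 1, 5, 1], [5, 0, 5, 0], [6, 7, 6, 7, 6, 7], [6, 8, 6, 8], [6, 10, 6, 10], [6, 11, 6, 11], [6, 9, 6, 9], [6, 1, 6, 1], [6, 0, 6, 0], [7, 8, 7, 8, 7, 8], [7, 10, 7, 10], [7, 11, 7, 11], [7, 9, 7, 9], [7, 1, 7, 1], [7, 0, 7, 0]] [6] = true :=
  by decide +kernel

theorem sat_rel_0_7 : relsC Cfsg.Agent.Spor.FiC.M24.act Cfsg.Agent.Spor.FiC.P24.I 327680 19 [[2, 3, 2, 3, 2, 3], [2, 4, 2, 4], [2, 5, 2, 5], [2, 6, 2, 6], [2, 7, 2, 7], [2, 8, 2, 8], [2, 10, 2, 10], [2, 11, 2, 11], [2, 9, 2, 9], [2, 1, 2, 1, 2, 1], [2, 0, 2, 0], [3, 4, 3, 4, 3, 4], [3, 5, 3, 5], [3, 6, 3, 6], [3, 7, 3, 7], [3, 8, 3, 8], [3, 10, 3, 10], [3, 11, 3, 11],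 [3, 9, 3, 9], [3, 1, 3, 1], [3, 0, 3, 0], [4, 5, 4, 5, 4, 5], [4, 6, 4, 6], [4, 7, 4, 7], [4, 8, 4, 8], [4, 10, 4, 10], [4, 11, 4, 11], [4, 9, 4, 9], [4, 1, 4, 1], [4, 0, 4, 0], [5, 6, 5, 6, 5, 6], [5, 7, 5, 7], [5, 8, 5, 8], [5, 10, 5, 10, 5, 10], [5, 11, 5, 11], [5, 9, 5, 9], [5, 1, 5, 1], [5, 0, 5, 0], [6, 7, 6, 7, 6, 7], [6, 8, 6, 8], [6, 10, 6, 10], [6, 11, 6, 11], [6, 9, 6, 9], [6, 1, 6, 1], [6, 0, 6, 0], [7, 8, 7, 8, 7, 8], [7, 10, 7, 10], [7, 11, 7, 11], [7, 9, 7, 9], [7, 1, 7, 1], [7, 0, 7, 0]] [7] = true :=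
  by decide +kernel

theorem sat_rel_0_8 : relsC Cfsg.Agent.Spor.FiC.M24.act Cfsg.Agent.Spor.FiC.P24.I 327680 19 [[2, 3, 2, 3, 2, 3], [2, 4, 2, 4], [2, 5, 2, 5], [2, 6, 2, 6], [2, 7, 2, 7], [2, 8, 2, 8], [2, 10, 2, 10], [2, 11, 2, 11], [2, 9, 2, 9], [2, 1, 2, 1, 2, 1], [2, 0, 2, 0], [3, 4, 3, 4, 3, 4], [3, 5, 3, 5], [3, 6, 3, 6], [3, 7, 3, 7], [3, 8, 3, 8], [3, 10, 3, 10], [3, 11, 3, 11], [3, 9, 3, 9], [3, 1, 3, 1], [3, 0, 3, 0], [4, 5, 4, 5, 4, 5], [4, 6, 4, 6], [4, 7, 4, 7], [4, 8, 4, 8], [4, 10, 4, 10], [4, 11, 4, 11], [4, 9, 4, 9], [4, 1, 4, 1], [4, 0, 4, 0], [5, 6, 5, 6, 5, 6], [5, 7, 5, 7], [5, 8, 5, 8], [5, 10, 5, 10, 5, 10], [5, 11, 5, 11], [5, 9, 5, 9], [5, 1, 5, 1], [5, 0, 5, 0], [6, 7, 6, 7, 6, 7], [6, 8, 6, 8], [6, 10,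 6, 10], [6, 11, 6, 11], [6, 9, 6, 9], [6, 1, 6, 1], [6, 0, 6, 0], [7, 8, 7, 8, 7, 8], [7, 10, 7, 10], [7, 11, 7, 11], [7, 9, 7, 9], [7, 1, 7, 1], [7, 0, 7, 0]] [8] = true :=
  by decide +kernel

theorem sat_rel_0_9 : relsC Cfsg.Agent.Spor.FiC.M24.act Cfsg.Agent.Spor.FiC.P24.I 327680 19 [[2, 3, 2, 3, 2, 3], [2, 4, 2, 4], [2, 5, 2, 5], [2, 6, 2, 6], [2, 7, 2, 7], [2, 8, 2, 8], [2, 10, 2, 10], [2, 11, 2, 11], [2, 9, 2, 9], [2, 1, 2, 1, 2, 1], [2, 0, 2, 0], [3, 4, 3, 4, 3, 4], [3, 5, 3, 5], [3, 6, 3, 6], [3, 7, 3, 7], [3, 8, 3, 8], [3, 10, 3, 10], [3, 11, 3, 11], [3, 9, 3, 9], [3, 1, 3, 1], [3, 0, 3, 0], [4, 5, 4, 5, 4, 5], [4, 6, 4, 6], [4, 7, 4, 7], [4, 8, 4, 8], [4, 10, 4, 10], [4, 11, 4, 11], [4, 9, 4, 9], [4, 1, 4, 1], [4, 0, 4,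 0], [5, 6, 5, 6, 5, 6], [5, 7, 5, 7], [5, 8, 5, 8], [5, 10, 5, 10, 5, 10], [5, 11, 5, 11], [5, 9, 5, 9], [5, 1, 5, 1], [5, 0, 5, 0], [6, 7, 6, 7, 6, 7], [6, 8, 6, 8], [6, 10, 6, 10], [6, 11, 6, 11], [6, 9, 6, 9], [6, 1, 6, 1], [6, 0, 6, 0], [7, 8, 7, 8, 7, 8], [7, 10, 7, 10], [7, 11, 7, 11], [7, 9, 7, 9], [7, 1, 7, 1], [7, 0, 7, 0]] [9] = true :=
  by decide +kernel

theorem sat_rel_0_10 : relsC Cfsg.Agent.Spor.FiC.M24.act Cfsg.Agent.Spor.FiC.P24.I 327680 19 [[2, 3, 2, 3, 2, 3], [2, 4, 2, 4], [2, 5, 2, 5], [2, 6, 2, 6], [2, 7, 2, 7], [2, 8, 2, 8], [2, 10, 2, 10], [2, 11, 2, 11], [2, 9, 2, 9], [2, 1, 2, 1, 2, 1], [2, 0, 2, 0], [3, 4, 3, 4, 3, 4], [3, 5, 3, 5], [3, 6, 3, 6], [3, 7, 3, 7], [3, 8, 3, 8], [3, 10, 3, 10], [3, 11, 3, 11],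 [3, 9, 3, 9], [3, 1, 3, 1], [3, 0, 3, 0], [4, 5, 4, 5, 4, 5], [4, 6, 4, 6], [4, 7, 4, 7], [4, 8, 4, 8], [4, 10, 4, 10], [4, 11, 4, 11], [4, 9, 4, 9], [4, 1, 4, 1], [4, 0, 4, 0], [5, 6, 5, 6, 5, 6], [5, 7, 5, 7], [5, 8, 5, 8], [5, 10, 5, 10, 5, 10], [5, 11, 5, 11], [5, 9, 5, 9], [5, 1, 5, 1], [5, 0, 5, 0], [6, 7, 6, 7, 6, 7], [6, 8, 6, 8], [6, 10, 6, 10], [6, 11, 6, 11], [6, 9, 6, 9], [6, 1, 6, 1], [6, 0, 6, 0], [7, 8, 7, 8, 7, 8], [7, 10, 7, 10], [7, 11, 7, 11], [7, 9, 7, 9], [7, 1, 7, 1], [7, 0, 7, 0]] [10] = true :=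
  by decide +kernel

theorem sat_rel_0_11 : relsC Cfsg.Agent.Spor.FiC.M24.act Cfsg.Agent.Spor.FiC.P24.I 327680 19 [[2, 3, 2, 3, 2, 3], [2, 4, 2, 4], [2, 5, 2, 5], [2, 6, 2, 6], [2, 7, 2, 7], [2, 8, 2, 8], [2, 10, 2, 10], [2, 11, 2, 11], [2, 9, 2, 9], [2, 1, 2, 1, 2, 1], [2, 0, 2, 0], [3, 4, 3, 4, 3, 4], [3, 5, 3, 5], [3, 6, 3, 6], [3, 7, 3, 7], [3, 8, 3, 8], [3, 10, 3, 10], [3, 11, 3, 11], [3, 9, 3, 9], [3, 1, 3, 1], [3, 0, 3, 0], [4, 5, 4, 5, 4, 5], [4, 6, 4, 6], [4, 7, 4, 7], [4, 8, 4, 8], [4, 10, 4, 10], [4, 11, 4, 11], [4, 9, 4, 9], [4, 1, 4, 1], [4, 0, 4, 0], [5, 6, 5, 6, 5, 6], [5, 7, 5, 7], [5, 8, 5, 8], [5, 10, 5, 10, 5, 10], [5, 11, 5, 11], [5, 9, 5, 9], [5, 1, 5, 1], [5, 0, 5, 0], [6, 7, 6, 7, 6, 7], [6, 8, 6, 8], [6, 10,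 6, 10], [6, 11, 6, 11], [6, 9, 6, 9], [6, 1, 6, 1], [6, 0, 6, 0], [7, 8, 7, 8, 7, 8], [7, 10, 7, 10], [7, 11, 7, 11], [7, 9, 7, 9], [7, 1, 7, 1], [7, 0, 7, 0]] [11] = true :=
  by decide +kernel

theorem sat_rel_0_12 : relsC Cfsg.Agent.Spor.FiC.M24.act Cfsg.Agent.Spor.FiC.P24.I 327680 19 [[2, 3, 2, 3, 2, 3], [2, 4, 2, 4], [2, 5, 2, 5], [2, 6, 2, 6], [2, 7, 2, 7], [2, 8, 2, 8], [2, 10, 2, 10], [2, 11, 2, 11], [2, 9, 2, 9], [2, 1, 2, 1, 2, 1], [2, 0, 2, 0], [3, 4, 3, 4, 3, 4], [3, 5, 3, 5], [3, 6, 3, 6], [3, 7, 3, 7], [3, 8, 3, 8], [3, 10, 3, 10], [3, 11, 3, 11], [3, 9, 3, 9], [3, 1, 3, 1], [3, 0, 3, 0], [4, 5, 4, 5, 4, 5], [4, 6, 4, 6], [4, 7, 4, 7], [4, 8, 4, 8], [4, 10, 4, 10], [4, 11, 4, 11], [4, 9, 4, 9], [4, 1, 4, 1], [4, 0, 4,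 0], [5, 6, 5, 6, 5, 6], [5, 7, 5, 7], [5, 8, 5, 8], [5, 10, 5, 10, 5, 10], [5, 11, 5, 11], [5, 9, 5, 9], [5, 1, 5, 1], [5, 0, 5, 0], [6, 7, 6, 7, 6, 7], [6, 8, 6, 8], [6, 10, 6, 10], [6, 11, 6, 11], [6, 9, 6, 9], [6, 1, 6, 1], [6, 0, 6, 0], [7, 8, 7, 8, 7, 8], [7, 10, 7, 10], [7, 11, 7, 11], [7, 9, 7, 9], [7, 1, 7, 1], [7, 0, 7, 0]] [12] = true :=
  by decide +kernel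

theorem sat_rel_0_13 : relsC Cfsg.Agent.Spor.FiC.M24.act Cfsg.Agent.Spor.FiC.P24.I 327680 19 [[2, 3, 2, 3, 2, 3], [2, 4, 2, 4], [2, 5, 2, 5], [2, 6, 2, 6], [2, 7, 2, 7], [2, 8, 2, 8], [2, 10, 2, 10], [2, 11, 2, 11], [2, 9, 2, 9], [2, 1, 2, 1, 2, 1], [2, 0, 2, 0], [3, 4, 3, 4, 3, 4], [3, 5, 3, 5], [3, 6, 3, 6], [3, 7, 3, 7], [3, 8, 3, 8], [3, 10, 3, 10], [3, 11, 3, 11], [3, 9, 3, 9], [3, 1, 3, 1], [3, 0, 3, 0], [4, 5, 4, 5, 4, 5], [4, 6, 4, 6], [4, 7, 4, 7], [4, 8, 4, 8], [4, 10, 4, 10], [4, 11, 4, 11], [4, 9, 4, 9], [4, 1, 4, 1], [4, 0, 4, 0], [5, 6, 5, 6, 5, 6], [5, 7, 5, 7], [5, 8, 5, 8], [5, 10, 5, 10, 5, 10], [5, 11, 5, 11], [5, 9, 5, 9], [5, 1, 5, 1], [5, 0, 5, 0], [6, 7, 6, 7, 6, 7], [6, 8, 6, 8], [6, 10, 6, 10], [6, 11, 6,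 11], [6, 9, 6, 9], [6, 1, 6, 1], [6, 0, 6, 0], [7, 8, 7, 8, 7, 8], [7, 10, 7, 10], [7, 11, 7, 11], [7, 9, 7, 9], [7, 1, 7, 1], [7, 0, 7, 0]] [13] = true :=
  by decide +kernel

theorem sat_rel_0_14 : relsC Cfsg.Agent.Spor.FiC.M24.act Cfsg.Agent.Spor.FiC.P24.I 327680 19 [[2, 3, 2, 3, 2, 3], [2, 4, 2, 4], [2, 5, 2, 5], [2, 6, 2, 6], [2, 7, 2, 7], [2, 8, 2, 8], [2, 10, 2, 10], [2, 11, 2, 11], [2, 9, 2, 9], [2, 1, 2, 1, 2, 1], [2, 0, 2, 0], [3, 4, 3, 4, 3, 4], [3, 5, 3, 5], [3, 6, 3, 6], [3, 7, 3, 7], [3, 8, 3, 8], [3, 10, 3, 10], [3, 11, 3, 11], [3, 9, 3, 9], [3, 1, 3, 1], [3, 0, 3, 0], [4, 5, 4, 5, 4, 5], [4, 6, 4, 6], [4, 7, 4, 7], [4, 8, 4, 8], [4, 10, 4, 10], [4, 11, 4, 11], [4, 9, 4, 9], [4, 1, 4, 1], [4, 0, 4, 0], [5, 6, 5, 6,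 5, 6], [5, 7, 5, 7], [5, 8, 5, 8], [5, 10, 5, 10, 5, 10], [5, 11, 5, 11], [5, 9, 5, 9], [5, 1, 5, 1], [5, 0, 5, 0], [6, 7, 6, 7, 6, 7], [6, 8, 6, 8], [6, 10, 6, 10], [6, 11, 6, 11], [6, 9, 6, 9], [6, 1, 6, 1], [6, 0, 6, 0], [7, 8, 7, 8, 7, 8], [7, 10, 7, 10], [7, 11, 7, 11], [7, 9, 7, 9], [7, 1, 7, 1], [7, 0, 7, 0]] [14] = true :=
  by decide +kernel

theorem sat_rel_0_15 : relsC Cfsg.Agent.Spor.FiC.M24.act Cfsg.Agent.Spor.FiC.P24.I 327680 19 [[2, 3, 2, 3, 2, 3], [2, 4, 2, 4], [2, 5, 2, 5], [2, 6, 2, 6], [2, 7, 2, 7], [2, 8, 2, 8], [2, 10, 2, 10], [2, 11, 2, 11], [2, 9, 2, 9], [2, 1, 2, 1, 2, 1], [2, 0, 2, 0], [3, 4, 3, 4, 3, 4], [3, 5, 3, 5], [3, 6, 3, 6], [3, 7, 3, 7], [3, 8, 3, 8], [3, 10, 3, 10], [3, 11, 3, 11], [3, 9, 3, 9],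 [3, 1, 3, 1], [3, 0, 3, 0], [4, 5, 4, 5, 4, 5], [4, 6, 4, 6], [4, 7, 4, 7], [4, 8, 4, 8], [4, 10, 4, 10], [4, 11, 4, 11], [4, 9, 4, 9], [4, 1, 4, 1], [4, 0, 4, 0], [5, 6, 5, 6, 5, 6], [5, 7, 5, 7], [5, 8, 5, 8], [5, 10, 5, 10, 5, 10], [5, 11, 5, 11], [5, 9, 5, 9], [5, 1, 5, 1], [5, 0, 5, 0], [6, 7, 6, 7, 6, 7], [6, 8, 6, 8], [6, 10, 6, 10], [6, 11, 6, 11], [6, 9, 6, 9], [6, 1, 6, 1], [6, 0, 6, 0], [7, 8, 7, 8, 7, 8], [7, 10, 7, 10], [7, 11, 7, 11], [7, 9, 7, 9], [7, 1, 7, 1], [7, 0, 7, 0]] [15] = true :=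
  by decide +kernel

theorem sat_rel_0_16 : relsC Cfsg.Agent.Spor.FiC.M24.act Cfsg.Agent.Spor.FiC.P24.I 327680 19 [[2, 3, 2, 3, 2, 3], [2, 4, 2, 4], [2, 5, 2, 5], [2, 6, 2, 6], [2, 7, 2, 7], [2, 8, 2, 8], [2, 10, 2, 10], [2, 11, 2, 11], [2, 9, 2, 9], [2, 1, 2, 1, 2, 1], [2, 0, 2, 0], [3, 4, 3, 4, 3, 4], [3, 5, 3, 5], [3, 6, 3, 6], [3, 7, 3, 7], [3, 8, 3, 8], [3, 10, 3, 10], [3, 11, 3, 11], [3, 9, 3, 9], [3, 1, 3, 1], [3, 0, 3, 0], [4, 5, 4, 5, 4, 5], [4, 6, 4, 6], [4, 7, 4, 7], [4, 8, 4, 8], [4, 10, 4, 10], [4, 11, 4, 11], [4, 9, 4, 9], [4, 1, 4, 1], [4, 0, 4, 0], [5, 6, 5, 6, 5, 6], [5, 7, 5, 7], [5, 8, 5, 8], [5, 10, 5, 10, 5, 10], [5, 11, 5, 11], [5, 9, 5, 9], [5, 1, 5, 1], [5, 0, 5, 0], [6, 7, 6, 7, 6, 7], [6, 8, 6, 8], [6, 10,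 6, 10], [6, 11, 6, 11], [6, 9, 6, 9], [6, 1, 6, 1], [6, 0, 6, 0], [7, 8, 7, 8, 7, 8], [7, 10, 7, 10], [7, 11, 7, 11], [7, 9, 7, 9], [7, 1, 7, 1], [7, 0, 7, 0]] [16] = true :=
  by decide +kernel

theorem sat_rel_0_17 : relsC Cfsg.Agent.Spor.FiC.M24.act Cfsg.Agent.Spor.FiC.P24.I 327680 19 [[2, 3, 2, 3, 2, 3], [2, 4, 2, 4], [2, 5, 2, 5], [2, 6, 2, 6], [2, 7, 2, 7], [2, 8, 2, 8], [2, 10, 2, 10], [2, 11, 2, 11], [2, 9, 2, 9], [2, 1, 2, 1, 2, 1], [2, 0, 2, 0], [3, 4, 3, 4, 3, 4], [3, 5, 3, 5], [3, 6, 3, 6], [3, 7, 3, 7], [3, 8, 3, 8], [3, 10, 3, 10], [3, 11, 3, 11], [3, 9, 3, 9], [3, 1, 3, 1], [3, 0, 3, 0], [4, 5, 4, 5, 4, 5], [4, 6, 4, 6], [4, 7, 4, 7], [4, 8, 4, 8], [4, 10, 4, 10], [4, 11, 4, 11], [4, 9, 4, 9], [4, 1, 4, 1], [4, 0, 4,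 0], [5, 6, 5, 6, 5, 6], [5, 7, 5, 7], [5, 8, 5, 8], [5, 10, 5, 10, 5, 10], [5, 11, 5, 11], [5, 9, 5, 9], [5, 1, 5, 1], [5, 0, 5, 0], [6, 7, 6, 7, 6, 7], [6, 8, 6, 8], [6, 10, 6, 10], [6, 11, 6, 11], [6, 9, 6, 9], [6, 1, 6, 1], [6, 0, 6, 0], [7, 8, 7, 8, 7, 8], [7, 10, 7, 10], [7, 11, 7, 11], [7, 9, 7, 9], [7, 1, 7, 1], [7, 0, 7, 0]] [17] = true :=
  by decide +kernel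

theorem sat_rel_0_18 : relsC Cfsg.Agent.Spor.FiC.M24.act Cfsg.Agent.Spor.FiC.P24.I 327680 19 [[2, 3, 2, 3, 2, 3], [2, 4, 2, 4], [2, 5, 2, 5], [2, 6, 2, 6], [2, 7, 2, 7], [2, 8, 2, 8], [2, 10, 2, 10], [2, 11, 2, 11], [2, 9, 2, 9], [2, 1, 2, 1, 2, 1], [2, 0, 2, 0], [3, 4, 3, 4, 3, 4], [3, 5, 3, 5], [3, 6, 3, 6], [3, 7, 3, 7], [3, 8, 3, 8], [3, 10, 3, 10], [3, 11, 3, 11], [3, 9, 3, 9], [3, 1, 3, 1], [3, 0, 3, 0], [4, 5, 4, 5, 4, 5], [4, 6, 4, 6], [4, 7, 4, 7], [4, 8, 4, 8], [4, 10, 4, 10], [4, 11, 4, 11], [4, 9, 4, 9], [4, 1, 4, 1], [4, 0, 4, 0], [5, 6, 5, 6, 5, 6], [5, 7, 5, 7], [5, 8, 5, 8], [5, 10, 5, 10, 5, 10], [5, 11, 5, 11], [5, 9, 5, 9], [5, 1, 5, 1], [5, 0, 5, 0], [6, 7, 6, 7, 6, 7], [6, 8, 6, 8], [6, 10, 6, 10], [6, 11, 6,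 11], [6, 9, 6, 9], [6, 1, 6, 1], [6, 0, 6, 0], [7, 8, 7, 8, 7, 8], [7, 10, 7, 10], [7, 11, 7, 11], [7, 9, 7, 9], [7, 1, 7, 1], [7, 0, 7, 0]] [18] = true :=
  by decide +kernel

end Cfsg.Agent.Spor.FiC.M24
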