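import Cfsg.Agent.Spor.Fi.Net24

set_option autoImplicit false
set_option Elab.async false
set_option maxRecDepth 100000

namespace Cfsg.Agent.Spor.FiC.M24

open Cfsg.Agent.Comp.BN

theorem sat_rel_1_0 : relsC Cfsg.Agent.Spor.FiC.M24.act Cfsg.Agent.Spor.FiC.P24.I 327680 19 [[8, 10, 8, 10], [8, 11, 8, 11], [8, 9, 8, 9, 8, 9], [8, 1, 8, 1], [8, 0, 8, 0], [10, 11, 10, 11, 10, 11], [10, 9, 10, 9], [10, 1, 10, 1], [10, 0, 10, 0], [11, 9, 11, 9], [11, 1, 11, 1], [11, 0, 11, 0], [9, 1, 9, 1], [9, 0, 9, 0], [1, 0, 1, 0, 1, 0], [0, 10, 7, 6, 5, 4, 3, 2, 10, 7, 6, 5, 4, 3, 2, 10, 7, 6, 5, 4, 3, 2, 10, 7, 6, 5, 4, 3, 2, 10, 7, 6, 5, 4, 3, 2, 10, 7, 6, 5, 4, 3, 2, 10, 7, 6, 5, 4, 3, 2, 10, 7, 6, 5, 4, 3, 2, 10, 7, 6, 5, 4, 3, 2]] [0] = true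 :=
  by decide +kernel

theorem sat_rel_1_1 : relsC Cfsg.Agent.Spor.FiC.M24.act Cfsg.Agent.Spor.FiC.P24.I 327680 19 [[8, 10, 8, 10], [8, 11, 8, 11], [8, 9, 8, 9, 8, 9], [8, 1, 8, 1], [8, 0, 8, 0], [10, 11, 10, 11, 10, 11], [10, 9, 10, 9], [10, 1, 10, 1], [10, 0, 10, 0], [11, 9, 11, 9], [11, 1, 11, 1], [11, 0, 11, 0], [9, 1, 9, 1], [9, 0, 9, 0], [1, 0, 1, 0, 1, 0], [0, 10, 7, 6, 5, 4, 3, 2, 10, 7, 6, 5, 4, 3, 2, 10, 7, 6, 5, 4, 3, 2, 10, 7, 6, 5, 4, 3, 2, 10, 7, 6, 5, 4, 3, 2, 10, 7, 6, 5, 4, 3, 2, 10, 7, 6, 5, 4, 3, 2, 10, 7, 6, 5, 4, 3, 2, 10, 7, 6, 5, 4, 3, 2]] [1] = true :=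
  by decide +kernel

theorem sat_rel_1_2 : relsC Cfsg.Agent.Spor.FiC.M24.act Cfsg.Agent.Spor.FiC.P24.I 327680 19 [[8, 10, 8, 10], [8, 11, 8, 11], [8, 9, 8, 9, 8, 9], [8, 1, 8, 1], [8, 0, 8, 0], [10, 11, 10, 11, 10, 11], [10, 9, 10, 9], [10, 1, 10, 1], [10, 0, 10, 0], [11, 9, 11, 9], [11, 1, 11, 1], [11, 0, 11, 0], [9, 1, 9, 1], [9, 0, 9, 0], [1, 0, 1, 0, 1, 0], [0, 10, 7, 6, 5, 4, 3, 2, 10, 7, 6, 5, 4, 3, 2, 10, 7, 6, 5, 4, 3, 2, 10, 7, 6, 5, 4, 3, 2, 10, 7, 6, 5, 4, 3, 2, 10, 7, 6, 5, 4, 3, 2, 10, 7, 6, 5, 4, 3, 2, 10, 7, 6, 5, 4, 3, 2, 10, 7, 6, 5, 4, 3, 2]] [2] = true :=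
  by decide +kernel

theorem sat_rel_1_3 : relsC Cfsg.Agent.Spor.FiC.M24.act Cfsg.Agent.Spor.FiC.P24.I 327680 19 [[8, 10, 8, 10], [8, 11, 8, 11], [8, 9, 8, 9, 8, 9], [8, 1, 8, 1], [8, 0, 8, 0], [10, 11, 10, 11, 10, 11], [10, 9, 10, 9], [10, 1, 10, 1], [10, 0, 10, 0], [11, 9, 11, 9], [11, 1, 11, 1], [11, 0, 11, 0], [9, 1, 9, 1], [9, 0, 9, 0], [1, 0, 1, 0, 1, 0], [0, 10, 7, 6, 5, 4, 3, 2, 10, 7, 6, 5, 4, 3, 2, 10, 7, 6, 5, 4, 3, 2, 10, 7, 6, 5, 4, 3, 2, 10, 7, 6, 5, 4, 3, 2, 10, 7, 6, 5, 4, 3, 2, 10, 7, 6, 5, 4, 3, 2, 10, 7, 6, 5, 4, 3, 2, 10, 7, 6, 5, 4, 3, 2]] [3] = true :=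
  by decide +kernel

theorem sat_rel_1_4 : relsC Cfsg.Agent.Spor.FiC.M24.act Cfsg.Agent.Spor.FiC.P24.I 327680 19 [[8, 10, 8, 10], [8, 11, 8, 11], [8, 9, 8, 9, 8, 9], [8, 1, 8, 1], [8, 0, 8, 0], [10, 11, 10, 11, 10, 11], [10, 9, 10, 9], [10, 1, 10, 1], [10, 0, 10, 0], [11, 9, 11, 9], [11, 1, 11, 1], [11, 0, 11, 0], [9, 1, 9, 1], [9, 0, 9, 0], [1, 0, 1, 0, 1, 0], [0, 10, 7, 6, 5, 4, 3, 2, 10, 7, 6, 5, 4, 3, 2, 10, 7, 6, 5, 4, 3, 2, 10, 7, 6, 5, 4, 3, 2, 10, 7, 6, 5, 4, 3, 2, 10, 7, 6, 5, 4, 3, 2, 10, 7, 6, 5, 4, 3, 2, 10, 7, 6, 5, 4, 3, 2, 10, 7, 6, 5, 4, 3, 2]] [4] = true :=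
  by decide +kernel

theorem sat_rel_1_5 : relsC Cfsg.Agent.Spor.FiC.M24.act Cfsg.Agent.Spor.FiC.P24.I 327680 19 [[8, 10, 8, 10], [8, 11, 8, 11], [8, 9, 8, 9, 8, 9], [8, 1, 8, 1], [8, 0, 8, 0], [10, 11, 10, 11, 10, 11], [10, 9, 10, 9], [10, 1, 10, 1], [10, 0, 10, 0], [11, 9, 11, 9], [11, 1, 11, 1], [11, 0, 11, 0], [9, 1, 9, 1], [9, 0, 9, 0], [1, 0, 1, 0, 1, 0], [0, 10, 7, 6, 5, 4, 3, 2, 10, 7, 6, 5, 4, 3, 2, 10, 7, 6, 5, 4, 3, 2, 10, 7, 6, 5, 4, 3, 2, 10, 7, 6, 5, 4, 3, 2, 10, 7, 6, 5, 4, 3, 2, 10, 7, 6, 5, 4, 3, 2, 10, 7, 6, 5, 4, 3, 2, 10, 7, 6, 5, 4, 3, 2]] [5] = true :=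
  by decide +kernel

theorem sat_rel_1_6 : relsC Cfsg.Agent.Spor.FiC.M24.act Cfsg.Agent.Spor.FiC.P24.I 327680 19 [[8, 10, 8, 10], [8, 11, 8, 11], [8, 9, 8, 9, 8, 9], [8, 1, 8, 1], [8, 0, 8, 0], [10, 11, 10, 11, 10, 11], [10, 9, 10, 9], [10, 1, 10, 1], [10, 0, 10, 0], [11, 9, 11, 9], [11, 1, 11, 1], [11, 0, 11, 0], [9, 1, 9, 1], [9, 0, 9, 0], [1, 0, 1, 0, 1, 0], [0, 10, 7, 6, 5, 4, 3, 2, 10, 7, 6, 5, 4, 3, 2, 10, 7, 6, 5, 4, 3, 2, 10, 7, 6, 5, 4, 3, 2, 10, 7, 6, 5, 4, 3, 2, 10, 7, 6, 5, 4, 3, 2, 10, 7, 6, 5, 4, 3, 2, 10, 7, 6, 5, 4, 3, 2, 10, 7, 6, 5, 4, 3, 2]] [6] = true :=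
  by decide +kernel

theorem sat_rel_1_7 : relsC Cfsg.Agent.Spor.FiC.M24.act Cfsg.Agent.Spor.FiC.P24.I 327680 19 [[8, 10, 8, 10], [8, 11, 8, 11], [8, 9, 8, 9, 8, 9], [8, 1, 8, 1], [8, 0, 8, 0], [10, 11, 10, 11, 10, 11], [10, 9, 10, 9], [10, 1, 10, 1], [10, 0, 10, 0], [11, 9, 11, 9], [11, 1, 11, 1], [11, 0, 11, 0], [9, 1, 9, 1], [9, 0, 9, 0], [1, 0, 1, 0, 1, 0], [0, 10, 7, 6, 5, 4, 3, 2, 10, 7, 6, 5, 4, 3, 2, 10, 7, 6, 5, 4, 3, 2, 10, 7, 6, 5, 4, 3, 2, 10, 7, 6, 5, 4, 3, 2, 10, 7, 6, 5, 4, 3, 2, 10, 7, 6, 5, 4, 3, 2, 10, 7, 6, 5, 4, 3, 2, 10, 7, 6, 5, 4, 3, 2]] [7] = true :=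
  by decide +kernel

theorem sat_rel_1_8 : relsC Cfsg.Agent.Spor.FiC.M24.act Cfsg.Agent.Spor.FiC.P24.I 327680 19 [[8, 10, 8, 10], [8, 11, 8, 11], [8, 9, 8, 9, 8, 9], [8, 1, 8, 1], [8, 0, 8, 0], [10, 11, 10, 11, 10, 11], [10, 9, 10, 9], [10, 1, 10, 1], [10, 0, 10, 0], [11, 9, 11, 9], [11, 1, 11, 1], [11, 0, 11, 0], [9, 1, 9, 1], [9, 0, 9, 0], [1, 0, 1, 0, 1, 0], [0, 10, 7, 6, 5, 4, 3, 2, 10, 7, 6, 5, 4, 3, 2, 10, 7, 6, 5, 4, 3, 2, 10, 7, 6, 5, 4, 3, 2, 10, 7, 6, 5, 4, 3, 2, 10, 7, 6, 5, 4, 3, 2, 10, 7, 6, 5, 4, 3, 2, 10, 7, 6, 5, 4, 3, 2, 10, 7, 6, 5, 4, 3, 2]] [8] = true :=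
  by decide +kernel

theorem sat_rel_1_9 : relsC Cfsg.Agent.Spor.FiC.M24.act Cfsg.Agent.Spor.FiC.P24.I 327680 19 [[8, 10, 8, 10], [8, 11, 8, 11], [8, 9, 8, 9, 8, 9], [8, 1, 8, 1], [8, 0, 8, 0], [10, 11, 10, 11, 10, 11], [10, 9, 10, 9], [10, 1, 10, 1], [10, 0, 10, 0], [11, 9, 11, 9], [11, 1, 11, 1], [11, 0, 11, 0], [9, 1, 9, 1], [9, 0, 9, 0], [1, 0, 1, 0, 1, 0], [0, 10, 7, 6, 5, 4, 3, 2, 10, 7, 6, 5, 4, 3, 2, 10, 7, 6, 5, 4, 3, 2, 10, 7, 6, 5, 4, 3, 2, 10, 7, 6, 5, 4, 3, 2, 10, 7, 6, 5, 4, 3, 2, 10, 7, 6, 5, 4, 3, 2, 10, 7, 6, 5, 4, 3, 2, 10, 7, 6, 5, 4, 3, 2]] [9] = true :=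
  by decide +kernel

theorem sat_rel_1_10 : relsC Cfsg.Agent.Spor.FiC.M24.act Cfsg.Agent.Spor.FiC.P24.I 327680 19 [[8, 10, 8, 10], [8, 11, 8, 11], [8, 9, 8, 9, 8, 9], [8, 1, 8, 1], [8, 0, 8, 0], [10, 11, 10, 11, 10, 11], [10, 9, 10, 9], [10, 1, 10, 1], [10, 0, 10, 0], [11, 9, 11, 9], [11, 1, 11, 1], [11, 0, 11, 0], [9, 1, 9, 1], [9, 0, 9, 0], [1, 0, 1, 0, 1, 0], [0, 10, 7, 6, 5, 4, 3, 2, 10, 7, 6, 5, 4, 3, 2, 10, 7, 6, 5, 4, 3, 2, 10, 7, 6, 5, 4, 3, 2, 10, 7, 6, 5, 4, 3, 2, 10, 7, 6, 5, 4, 3, 2, 10, 7, 6, 5, 4, 3, 2, 10, 7, 6, 5, 4, 3, 2, 10, 7, 6, 5, 4, 3, 2]] [10] = true :=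
  by decide +kernel

theorem sat_rel_1_11 : relsC Cfsg.Agent.Spor.FiC.M24.act Cfsg.Agent.Spor.FiC.P24.I 327680 19 [[8, 10, 8, 10], [8, 11, 8, 11], [8, 9, 8, 9, 8, 9], [8, 1, 8, 1], [8, 0, 8, 0], [10, 11, 10, 11, 10, 11], [10, 9, 10, 9], [10, 1, 10, 1], [10, 0, 10, 0], [11, 9, 11, 9], [11, 1, 11, 1], [11, 0, 11, 0], [9, 1, 9, 1], [9, 0, 9, 0], [1, 0, 1, 0, 1, 0], [0, 10, 7, 6, 5, 4, 3, 2, 10, 7, 6, 5, 4, 3, 2, 10, 7, 6, 5, 4, 3, 2, 10, 7, 6, 5, 4, 3, 2, 10, 7, 6, 5, 4, 3, 2, 10, 7, 6, 5, 4, 3, 2, 10, 7, 6, 5, 4, 3, 2, 10, 7, 6, 5, 4, 3, 2, 10, 7, 6, 5, 4, 3, 2]] [11] = true :=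
  by decide +kernel

theorem sat_rel_1_12 : relsC Cfsg.Agent.Spor.FiC.M24.act Cfsg.Agent.Spor.FiC.P24.I 327680 19 [[8, 10, 8, 10], [8, 11, 8, 11], [8, 9, 8, 9, 8, 9], [8, 1, 8, 1], [8, 0, 8, 0], [10, 11, 10, 11, 10, 11], [10, 9, 10, 9], [10, 1, 10, 1], [10, 0, 10, 0], [11, 9, 11, 9], [11, 1, 11, 1], [11, 0, 11, 0], [9, 1, 9, 1], [9, 0, 9, 0], [1, 0, 1, 0, 1, 0], [0, 10, 7, 6, 5, 4, 3, 2, 10, 7, 6, 5, 4, 3, 2, 10, 7, 6, 5, 4, 3, 2, 10, 7, 6, 5, 4, 3, 2, 10, 7, 6, 5, 4, 3, 2, 10, 7, 6, 5, 4, 3, 2, 10, 7, 6, 5, 4, 3, 2, 10, 7, 6, 5, 4, 3, 2, 10, 7, 6, 5, 4, 3, 2]] [12] = true :=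
  by decide +kernel

theorem sat_rel_1_13 : relsC Cfsg.Agent.Spor.FiC.M24.act Cfsg.Agent.Spor.FiC.P24.I 327680 19 [[8, 10, 8, 10], [8, 11, 8, 11], [8, 9, 8, 9, 8, 9], [8, 1, 8, 1], [8, 0, 8, 0], [10, 11, 10, 11, 10, 11], [10, 9, 10, 9], [10, 1, 10, 1], [10, 0, 10, 0], [11, 9, 11, 9], [11, 1, 11, 1], [11, 0, 11, 0], [9, 1, 9, 1], [9, 0, 9, 0], [1, 0, 1, 0, 1, 0], [0, 10, 7, 6, 5, 4, 3, 2, 10, 7, 6, 5, 4, 3, 2, 10, 7, 6, 5, 4, 3, 2, 10, 7, 6, 5, 4, 3, 2, 10, 7, 6, 5, 4, 3, 2, 10, 7, 6, 5, 4, 3, 2, 10, 7, 6, 5, 4, 3, 2, 10, 7, 6, 5, 4, 3, 2, 10, 7, 6, 5, 4, 3, 2]] [13] = true :=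
  by decide +kernel

theorem sat_rel_1_14 : relsC Cfsg.Agent.Spor.FiC.M24.act Cfsg.Agent.Spor.FiC.P24.I 327680 19 [[8, 10, 8, 10], [8, 11, 8, 11], [8, 9, 8, 9, 8, 9], [8, 1, 8, 1], [8, 0, 8, 0], [10, 11, 10, 11, 10, 11], [10, 9, 10, 9], [10, 1, 10, 1], [10, 0, 10, 0], [11, 9, 11, 9], [11, 1, 11, 1], [11, 0, 11, 0], [9, 1, 9, 1], [9, 0, 9, 0], [1, 0, 1, 0, 1, 0], [0, 10, 7, 6, 5, 4, 3, 2, 10, 7, 6, 5, 4, 3, 2, 10, 7, 6, 5, 4, 3, 2, 10, 7, 6, 5, 4, 3, 2, 10, 7, 6, 5, 4, 3, 2, 10, 7, 6, 5, 4, 3, 2, 10, 7, 6, 5, 4, 3, 2, 10, 7, 6, 5, 4, 3, 2, 10, 7, 6, 5, 4, 3, 2]] [14] = true :=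
  by decide +kernel

theorem sat_rel_1_15 : relsC Cfsg.Agent.Spor.FiC.M24.act Cfsg.Agent.Spor.FiC.P24.I 327680 19 [[8, 10, 8, 10], [8, 11, 8, 11], [8, 9, 8, 9, 8, 9], [8, 1, 8, 1], [8, 0, 8, 0], [10, 11, 10, 11, 10, 11], [10, 9, 10, 9], [10, 1, 10, 1], [10, 0, 10, 0], [11, 9, 11, 9], [11, 1, 11, 1], [11, 0, 11, 0], [9, 1, 9, 1], [9, 0, 9, 0], [1, 0, 1, 0, 1, 0], [0, 10, 7, 6, 5, 4, 3, 2, 10, 7, 6, 5, 4, 3, 2, 10, 7, 6, 5, 4, 3, 2, 10, 7, 6, 5, 4, 3, 2, 10, 7, 6, 5, 4, 3, 2, 10, 7, 6, 5, 4, 3, 2, 10, 7, 6, 5, 4, 3, 2, 10, 7, 6, 5, 4, 3, 2, 10, 7, 6, 5, 4, 3, 2]] [15] = true :=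
  by decide +kernel

theorem sat_rel_1_16 : relsC Cfsg.Agent.Spor.FiC.M24.act Cfsg.Agent.Spor.FiC.P24.I 327680 19 [[8, 10, 8, 10], [8, 11, 8, 11], [8, 9, 8, 9, 8, 9], [8, 1, 8, 1], [8, 0, 8, 0], [10, 11, 10, 11, 10, 11], [10, 9, 10, 9], [10, 1, 10, 1], [10, 0, 10, 0], [11, 9, 11, 9], [11, 1, 11, 1], [11, 0, 11, 0], [9, 1, 9, 1], [9, 0, 9, 0], [1, 0, 1, 0, 1, 0], [0, 10, 7, 6, 5, 4, 3, 2, 10, 7, 6, 5, 4, 3, 2, 10, 7, 6, 5, 4, 3, 2, 10, 7, 6, 5, 4, 3, 2, 10, 7, 6, 5, 4, 3, 2, 10, 7, 6, 5, 4, 3, 2, 10, 7, 6, 5, 4, 3, 2, 10, 7, 6, 5, 4, 3, 2, 10, 7, 6, 5, 4, 3, 2]] [16] = true :=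
  by decide +kernel

theorem sat_rel_1_17 : relsC Cfsg.Agent.Spor.FiC.M24.act Cfsg.Agent.Spor.FiC.P24.I 327680 19 [[8, 10, 8, 10], [8, 11, 8, 11], [8, 9, 8, 9, 8, 9], [8, 1, 8, 1], [8, 0, 8, 0], [10, 11, 10, 11, 10, 11], [10, 9, 10, 9], [10, 1, 10, 1], [10, 0, 10, 0], [11, 9, 11, 9], [11, 1, 11, 1], [11, 0, 11, 0], [9, 1, 9, 1], [9, 0, 9, 0], [1, 0, 1, 0, 1, 0], [0, 10, 7, 6, 5, 4, 3, 2, 10, 7, 6, 5, 4, 3, 2, 10, 7, 6, 5, 4, 3, 2, 10, 7, 6, 5, 4, 3, 2, 10, 7, 6, 5, 4, 3, 2, 10, 7, 6, 5, 4, 3, 2, 10, 7, 6, 5, 4, 3, 2, 10, 7, 6, 5, 4, 3, 2, 10, 7, 6, 5, 4, 3, 2]] [17] = true :=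
  by decide +kernel

theorem sat_rel_1_18 : relsC Cfsg.Agent.Spor.FiC.M24.act Cfsg.Agent.Spor.FiC.P24.I 327680 19 [[8, 10, 8, 10], [8, 11, 8, 11], [8, 9, 8, 9, 8, 9], [8, 1, 8, 1], [8, 0, 8, 0], [10, 11, 10, 11, 10, 11], [10, 9, 10, 9], [10, 1, 10, 1], [10, 0, 10, 0], [11, 9, 11, 9], [11, 1, 11, 1], [11, 0, 11, 0], [9, 1, 9, 1], [9, 0, 9, 0], [1, 0, 1, 0, 1, 0], [0, 10, 7, 6, 5, 4, 3, 2, 10, 7, 6, 5, 4, 3, 2, 10, 7, 6, 5, 4, 3, 2, 10, 7, 6, 5, 4, 3, 2, 10, 7, 6, 5, 4, 3, 2, 10, 7, 6, 5, 4, 3, 2, 10, 7, 6, 5, 4, 3, 2, 10, 7, 6, 5, 4, 3, 2, 10, 7, 6, 5, 4, 3, 2]] [18] = true :=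
  by decide +kernel

end Cfsg.Agent.Spor.FiC.M24
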