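import Cfsg.Agent.Spor.Fi.Net24
import Cfsg.Agent.Spor.Fi.Sat24R0
import Cfsg.Agent.Spor.Fi.Sat24R1
import Cfsg.Agent.Spor.Fi.Sat24R2
import Cfsg.Agent.Spor.Fi.Sat24I

set_option autoImplicit false
set_option Elab.async false
set_option maxRecDepth 100000

namespace Cfsg.Agent.Spor.FiC.M24

open Cfsg.Agent.Comp.BN

theorem sat_rel_0 : ∀ r ∈ ([[2, 3, 2, 3, 2, 3], [2, 4, 2, 4], [2, 5, 2, 5], [2, 6, 2, 6], [2, 7, 2, 7], [2, 8, 2, 8], [2, 10, 2, 10], [2, 11, 2, 11], [2, 9, 2, 9], [2, 1, 2, 1, 2, 1], [2, 0, 2, 0], [3, 4, 3, 4, 3, 4], [3, 5, 3, 5], [3, 6, 3, 6], [3, 7, 3, 7], [3, 8, 3, 8], [3, 10, 3, 10], [3, 11, 3, 11], [3, 9, 3, 9], [3, 1, 3, 1], [3, 0, 3, 0], [4, 5, 4, 5, 4, 5], [4, 6, 4, 6], [4, 7, 4, 7], [4, 8,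 4, 8], [4, 10, 4, 10], [4, 11, 4, 11], [4, 9, 4, 9], [4, 1, 4, 1], [4, 0, 4, 0], [5, 6, 5, 6, 5, 6], [5, 7, 5, 7], [5, 8, 5, 8], [5, 10, 5, 10, 5, 10], [5, 11, 5, 11], [5, 9, 5, 9], [5, 1, 5, 1], [5, 0, 5, 0], [6, 7, 6, 7, 6, 7], [6, 8, 6, 8], [6, 10, 6, 10], [6, 11, 6, 11], [6, 9, 6, 9], [6, 1, 6, 1], [6, 0, 6, 0], [7, 8, 7, 8, 7, 8], [7, 10, 7, 10], [7, 11, 7, 11], [7, 9, 7, 9], [7, 1, 7, 1], [7, 0, 7, 0]] : List (List ℕ)), ev Cfsg.Agent.Spor.FiC.M24.π r = 1 :=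
  rels_of_checks Cfsg.Agent.Spor.FiC.M24.spec (K := 19) (by decide) sat_inv _ [[0], [1], [2], [3], [4], [5], [6], [7], [8], [9], [10], [11], [12], [13], [14], [15], [16], [17], [18]] (by decide) ⟨sat_rel_0_0, sat_rel_0_1, sat_rel_0_2, sat_rel_0_3, sat_rel_0_4, sat_rel_0_5, sat_rel_0_6, sat_rel_0_7, sat_rel_0_8, sat_rel_0_9, sat_rel_0_10, sat_rel_0_11, sat_rel_0_12, sat_rel_0_13, sat_rel_0_14, sat_rel_0_15, sat_rel_0_16, sat_rel_0_17, sat_rel_0_18, trivial⟩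

theorem sat_rel_1 : ∀ r ∈ ([[8, 10, 8, 10], [8, 11, 8, 11], [8, 9, 8, 9, 8, 9], [8, 1, 8, 1], [8, 0, 8, 0], [10, 11, 10, 11, 10, 11], [10, 9, 10, 9], [10, 1, 10, 1], [10, 0, 10, 0], [11, 9, 11, 9], [11, 1, 11, 1], [11, 0, 11, 0], [9, 1, 9, 1], [9, 0, 9, 0], [1, 0, 1, 0, 1, 0], [0, 10, 7, 6, 5, 4, 3, 2, 10, 7, 6, 5, 4, 3, 2, 10, 7, 6, 5, 4, 3, 2, 10, 7, 6, 5, 4, 3, 2, 10, 7, 6, 5, 4, 3, 2, 10, 7, 6, 5, 4, 3, 2, 10, 7, 6, 5, 4, 3, 2, 10, 7, 6, 5, 4, 3, 2, 10, 7, 6, 5, 4, 3, 2]] : List (List ℕ)), ev Cfsg.Agent.Spor.FiC.M24.π r = 1 :=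
  rels_of_checks Cfsg.Agent.Spor.FiC.M24.spec (K := 19) (by decide) sat_inv _ [[0], [1], [2], [3], [4], [5], [6], [7], [8], [9], [10], [11], [12], [13], [14], [15], [16], [17], [18]] (by decide) ⟨sat_rel_1_0, sat_rel_1_1, sat_rel_1_2, sat_rel_1_3, sat_rel_1_4, sat_rel_1_5, sat_rel_1_6, sat_rel_1_7, sat_rel_1_8, sat_rel_1_9, sat_rel_1_10, sat_rel_1_11, sat_rel_1_12, sat_rel_1_13, sat_rel_1_14, sat_rel_1_15, sat_rel_1_16, sat_rel_1_17, sat_rel_1_18, trivial⟩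

theorem sat_rel_2 : ∀ r ∈ ([[5, 4, 3, 2, 1, 0, 5, 6, 7, 8, 9, 5, 10, 11, 5, 4, 3, 2, 1, 0, 5, 6, 7, 8, 9, 5, 10, 11, 5, 4, 3, 2, 1, 0, 5, 6, 7, 8, 9, 5, 10, 11, 5, 4, 3, 2, 1, 0, 5, 6, 7, 8, 9, 5, 10, 11, 5, 4, 3, 2, 1, 0, 5, 6, 7, 8, 9, 5, 10, 11, 5, 4, 3, 2, 1, 0, 5, 6, 7, 8, 9, 5, 10, 11, 5, 4, 3, 2, 1, 0, 5, 6, 7, 8, 9, 5, 10, 11, 5, 4, 3, 2, 1, 0, 5, 6, 7, 8, 9, 5, 10, 11, 5, 4, 3, 2, 1, 0, 5, 6, 7, 8, 9, 5, 10, 11, 5, 4, 3, 2, 1, 0, 5, 6, 7, 8, 9, 5, 10, 11, 5, 4, 3, 2, 1, 0, 5, 6, 7, 8, 9, 5, 10, 11, 5, 4, 3, 2, 1, 0, 5, 6, 7, 8, 9, 5, 10, 11, 5, 4, 3, 2, 1, 0, 5, 6, 7, 8, 9, 5, 10, 11, 5, 4, 3, 2, 1, 0, 5, 6, 7, 8, 9, 5, 10, 11, 5, 4, 3, 2, 1, 0, 5, 6, 7, 8, 9, 5, 10, 11, 5, 4, 3, 2, 1, 0, 5, 6, 7, 8,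 9, 5, 10, 11, 5, 4, 3, 2, 1, 0, 5, 6, 7, 8, 9, 5, 10, 11]] : List (List ℕ)), ev Cfsg.Agent.Spor.FiC.M24.π r = 1 :=
  rels_of_checks Cfsg.Agent.Spor.FiC.M24.spec (K := 19) (by decide) sat_inv _ [[0], [1], [2], [3], [4], [5], [6], [7], [8], [9], [10], [11], [12], [13], [14], [15], [16], [17], [18]] (by decide) ⟨sat_rel_2_0, sat_rel_2_1, sat_rel_2_2, sat_rel_2_3, sat_rel_2_4, sat_rel_2_5, sat_rel_2_6, sat_rel_2_7, sat_rel_2_8, sat_rel_2_9, sat_rel_2_10, sat_rel_2_11, sat_rel_2_12, sat_rel_2_13, sat_rel_2_14, sat_rel_2_15, sat_rel_2_16, sat_rel_2_17, sat_rel_2_18, trivial⟩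

theorem sat_rel : ∀ r ∈ ([[2, 3, 2, 3, 2, 3], [2, 4, 2, 4], [2, 5, 2, 5], [2, 6, 2, 6], [2, 7, 2, 7], [2, 8, 2, 8], [2, 10, 2, 10], [2, 11, 2, 11], [2, 9, 2, 9], [2, 1, 2, 1, 2, 1], [2, 0, 2, 0], [3, 4, 3, 4, 3, 4], [3, 5, 3, 5], [3, 6, 3, 6], [3, 7, 3, 7], [3, 8, 3, 8], [3, 10, 3, 10], [3, 11, 3, 11], [3, 9, 3, 9], [3, 1, 3, 1], [3, 0, 3, 0], [4, 5, 4, 5, 4, 5], [4, 6, 4, 6], [4, 7, 4, 7], [4, 8, 4, 8], [4, 10, 4, 10], [4, 11, 4, 11], [4, 9, 4, 9], [4, 1, 4, 1], [4, 0, 4, 0], [5, 6, 5, 6, 5, 6], [5, 7, 5, 7], [5, 8, 5, 8], [5, 10, 5, 10, 5, 10], [5, 11, 5, 11], [5, 9, 5, 9], [5, 1, 5, 1], [5, 0, 5, 0], [6, 7, 6, 7, 6, 7], [6, 8, 6, 8], [6, 10, 6, 10], [6, 11, 6, 11], [6, 9, 6, 9], [6, 1, 6, 1], [6, 0, 6, 0],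 [7, 8, 7, 8, 7, 8], [7, 10, 7, 10], [7, 11, 7, 11], [7, 9, 7, 9], [7, 1, 7, 1], [7, 0, 7, 0], [8, 10, 8, 10], [8, 11, 8, 11], [8, 9, 8, 9, 8, 9], [8, 1, 8, 1], [8, 0, 8, 0], [10, 11, 10, 11, 10, 11], [10, 9, 10, 9], [10, 1, 10, 1], [10, 0, 10, 0], [11, 9, 11, 9], [11, 1, 11, 1], [11, 0, 11, 0], [9, 1, 9, 1], [9, 0, 9, 0], [1, 0, 1, 0, 1, 0], [0, 10, 7, 6, 5, 4, 3, 2, 10, 7, 6, 5, 4, 3, 2, 10, 7, 6, 5, 4, 3, 2, 10, 7, 6, 5, 4, 3, 2, 10, 7, 6, 5, 4, 3, 2, 10, 7, 6, 5, 4, 3, 2, 10, 7, 6, 5, 4, 3, 2, 10, 7, 6, 5, 4, 3, 2, 10, 7, 6, 5, 4, 3, 2], [5, 4, 3, 2, 1, 0, 5, 6, 7, 8, 9, 5, 10, 11, 5, 4, 3, 2, 1, 0, 5, 6, 7, 8, 9, 5, 10, 11, 5, 4, 3, 2, 1, 0, 5, 6, 7, 8, 9, 5, 10, 11, 5, 4, 3, 2, 1, 0, 5, 6, 7, 8, 9, 5, 10,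 11, 5, 4, 3, 2, 1, 0, 5, 6, 7, 8, 9, 5, 10, 11, 5, 4, 3, 2, 1, 0, 5, 6, 7, 8, 9, 5, 10, 11, 5, 4, 3, 2, 1, 0, 5, 6, 7, 8, 9, 5, 10, 11, 5, 4, 3, 2, 1, 0, 5, 6, 7, 8, 9, 5, 10, 11, 5, 4, 3, 2, 1, 0, 5, 6, 7, 8, 9, 5, 10, 11, 5, 4, 3, 2, 1, 0, 5, 6, 7, 8, 9, 5, 10, 11, 5, 4, 3, 2, 1, 0, 5, 6, 7, 8, 9, 5, 10, 11, 5, 4, 3, 2, 1, 0, 5, 6, 7, 8, 9, 5, 10, 11, 5, 4, 3, 2, 1, 0, 5, 6, 7, 8, 9, 5, 10, 11, 5, 4, 3, 2, 1, 0, 5, 6, 7, 8, 9, 5, 10, 11, 5, 4, 3, 2, 1, 0, 5, 6, 7, 8, 9, 5, 10, 11, 5, 4, 3, 2, 1, 0, 5, 6, 7, 8, 9, 5, 10, 11, 5, 4, 3, 2, 1, 0, 5, 6, 7, 8, 9, 5, 10, 11]] : List (List ℕ)), ev Cfsg.Agent.Spor.FiC.M24.π r = 1 :=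
  rels_join [[[2, 3, 2, 3, 2, 3], [2, 4, 2, 4], [2, 5, 2, 5], [2, 6, 2, 6], [2, 7, 2, 7], [2, 8, 2, 8], [2, 10, 2, 10], [2, 11, 2, 11], [2, 9, 2, 9], [2, 1, 2, 1, 2, 1], [2, 0, 2, 0], [3, 4, 3, 4, 3, 4], [3, 5, 3, 5], [3, 6, 3, 6], [3, 7, 3, 7], [3, 8, 3, 8], [3, 10, 3, 10], [3, 11, 3, 11], [3, 9, 3, 9], [3, 1, 3, 1], [3, 0, 3, 0], [4, 5, 4, 5, 4, 5], [4, 6, 4, 6], [4, 7, 4, 7], [4, 8, 4, 8], [4, 10, 4, 10], [4, 11, 4, 11], [4, 9, 4, 9], [4, 1, 4, 1], [4, 0, 4, 0], [5, 6, 5, 6, 5, 6], [5, 7, 5, 7], [5, 8, 5, 8], [5, 10, 5, 10, 5, 10], [5, 11, 5, 11], [5, 9, 5, 9], [5, 1, 5, 1], [5, 0, 5, 0], [6, 7, 6, 7, 6, 7], [6, 8, 6, 8], [6, 10, 6, 10], [6, 11, 6, 11], [6, 9, 6, 9], [6, 1, 6, 1], [6, 0, 6, 0], [7, 8, 7, 8,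 7, 8], [7, 10, 7, 10], [7, 11, 7, 11], [7, 9, 7, 9], [7, 1, 7, 1], [7, 0, 7, 0]], [[8, 10, 8, 10], [8, 11, 8, 11], [8, 9, 8, 9, 8, 9], [8, 1, 8, 1], [8, 0, 8, 0], [10, 11, 10, 11, 10, 11], [10, 9, 10, 9], [10, 1, 10, 1], [10, 0, 10, 0], [11, 9, 11, 9], [11, 1, 11, 1], [11, 0, 11, 0], [9, 1, 9, 1], [9, 0, 9, 0], [1, 0, 1, 0, 1, 0], [0, 10, 7, 6, 5, 4, 3, 2, 10, 7, 6, 5, 4, 3, 2, 10, 7, 6, 5, 4, 3, 2, 10, 7, 6, 5, 4, 3, 2, 10, 7, 6, 5, 4, 3, 2, 10, 7, 6, 5, 4, 3, 2, 10, 7, 6, 5, 4, 3, 2, 10, 7, 6, 5, 4, 3, 2, 10, 7, 6, 5, 4, 3, 2]], [[5, 4, 3, 2, 1, 0, 5, 6, 7, 8, 9, 5, 10, 11, 5, 4, 3, 2, 1, 0, 5, 6, 7, 8, 9, 5, 10, 11, 5, 4, 3, 2, 1, 0, 5, 6, 7, 8, 9, 5, 10, 11, 5, 4, 3, 2, 1, 0, 5, 6, 7, 8, 9, 5, 10, 11, 5, 4,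 3, 2, 1, 0, 5, 6, 7, 8, 9, 5, 10, 11, 5, 4, 3, 2, 1, 0, 5, 6, 7, 8, 9, 5, 10, 11, 5, 4, 3, 2, 1, 0, 5, 6, 7, 8, 9, 5, 10, 11, 5, 4, 3, 2, 1, 0, 5, 6, 7, 8, 9, 5, 10, 11, 5, 4, 3, 2, 1, 0, 5, 6, 7, 8, 9, 5, 10, 11, 5, 4, 3, 2, 1, 0, 5, 6, 7, 8, 9, 5, 10, 11, 5, 4, 3, 2, 1, 0, 5, 6, 7, 8, 9, 5, 10, 11, 5, 4, 3, 2, 1, 0, 5, 6, 7, 8, 9, 5, 10, 11, 5, 4, 3, 2, 1, 0, 5, 6, 7, 8, 9, 5, 10, 11, 5, 4, 3, 2, 1, 0, 5, 6, 7, 8, 9, 5, 10, 11, 5, 4, 3, 2, 1, 0, 5, 6, 7, 8, 9, 5, 10, 11, 5, 4, 3, 2, 1, 0, 5, 6, 7, 8, 9, 5, 10, 11, 5, 4, 3, 2, 1, 0, 5, 6, 7, 8, 9, 5, 10, 11]]] ⟨sat_rel_0, sat_rel_1, sat_rel_2, trivial⟩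

theorem sat : Sat Cfsg.Agent.Spor.FiC.P24 Cfsg.Agent.Spor.FiC.M24.π :=
  ⟨Cfsg.Agent.Spor.FiC.M24.out, sat_inv, sat_rel⟩

theorem satL : Sat Cfsg.Agent.Spor.FiC.PL24 Cfsg.Agent.Spor.FiC.M24.π :=
  sat.addC ⟨Cfsg.Agent.Spor.FiC.sp24, trivial⟩

end Cfsg.Agent.Spor.FiC.M24
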